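import Cfsg.Agent.Lib.SuzukiIdent.Coord
import Cfsg.Agent.Lib.SharplyEven.SimpleZassenhaus
import Cfsg.Agent.S1137
import Mathlib.FieldTheory.Finite.GaloisField

/-!
A simple Zassenhaus group whose kernel is a non-abelian 2-group is a Suzuki group.
-/

set_option autoImplicit false

open MulAction Cfsg

namespace CfsgLib.SuzukiIdent

open CfsgLib.RealChar.Zassenhaus CfsgLib.SharplyEven CfsgLib.SuzukiTwo

/-- Transport of a setup along an isomorphism of fields. -/
def Setup.mapField {G Ω F F' : Type*} [Group G] [MulAction G Ω] [Field F] [Field F'] (S : Setup G Ω F)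
    (e : F' ≃+* F) : Setup G Ω F' where
  φ := (e.trans S.φ).trans e.symm
  U a b := S.U (e a) (e b)
  H := S.H.comp (Units.map e.toMonoidHom)
  τ := S.τ
  inf := S.inf
  zero := S.zero
  U_mul a b c d := by rw [S.U_mul]; simp
  H_U k a b := by
    show S.H (Units.map e.toMonoidHom k) * _ = _ * S.H (Units.map e.toMonoidHom k)
    rw [S.H_U]
    simp
  τ_sq := S.τ_sq
  τ_H k := by
    show S.τ * S.H (Units.map e.toMonoidHom k) = S.H (Units.map e.toMonoidHom k⁻¹) * S.τ
    rw [S.τ_H, map_inv (Units.map e.toMonoidHom)]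
  τ_inf := S.τ_inf
  U_inf a b := S.U_inf _ _
  H_inf k := S.H_inf _
  H_zero k := S.H_zero _
  ne_inf a b := S.ne_inf _ _
  inj a b c d h := ⟨e.injective (S.inj _ _ _ _ h).1, e.injective (S.inj _ _ _ _ h).2⟩
  surj x hx := by
    obtain ⟨a, b, h⟩ := S.surj x hx
    exact ⟨e.symm a, e.symm b, by simpa using h⟩
  stab g hg := by
    obtain ⟨a, b, k, h⟩ := S.stab g hg
    refine ⟨e.symm a, e.symm b, Units.map e.symm.toMonoidHom k, ?_⟩
    rw [h]
    show _ = S.U (e (e.symm a)) (e (e.symm b)) *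
      S.H (Units.map e.toMonoidHom (Units.map e.symm.toMonoidHom k))
    rw [show Units.map e.toMonoidHom (Units.map e.symm.toMonoidHom k) = k from
      Units.ext (e.apply_symm_apply _), e.apply_symm_apply, e.apply_symm_apply]
  faithful := S.faithful
  minj x y h := by
    have h' := congrArg e h
    simp only [RingEquiv.trans_apply, map_mul, e.apply_symm_apply] at h'
    exact Units.ext (e.injective (congrArg Units.val
      (S.minj (Units.map e.toMonoidHom x) (Units.map e.toMonoidHom y) h')))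

universe u

variable {G : Type u} {Ω : Type*} [Group G] [Finite G] [MulAction G Ω] [Fintype Ω] [IsSimpleGroup G]

/-- A simple Zassenhaus group with a non-abelian regular 2-subgroup in a point stabiliser, normal there,
is a Suzuki group. -/
theorem isoSuzuki_of_zassenhaus (hZ : Cfsg.IsZassenhausGroup G Ω) {a b : Ω} (hab : a ≠ b) (U : Subgroup G)
    (hUle : U ≤ stabilizer G a) (hUn : ∀ g ∈ stabilizer G a, ∀ u ∈ U, g * u * g⁻¹ ∈ U)
    (hreg : ∀ y z : Ω, y ≠ a → z ≠ a → ∃! u : U, (u : G) • y = z)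
    (hU2 : IsPGroup 2 U) (hUna : ∃ u v : U, u * v ≠ v * u) : Cfsg.Lie.IsoSuzuki G := by
  classical
  haveI := Fintype.ofFinite G
  obtain ⟨n, hn, hn1, -, -, hEcard, hS, hZcard, hUcard, -⟩ :=
    SimpleZassenhaus.suzuki_case hZ hab U hUle hUn hreg hU2 hUna
  obtain ⟨hUΩ, hfix⟩ := SimpleZassenhaus.eq_kernel hZ hab U hUle hUn hreg
  obtain ⟨hodd, hEcyc, -, -, htrans, -⟩ := SuzukiKernel.kernel_data hZ hab U hUle hUΩ hfix hU2 hUna
  set E : Subgroup G := stabilizer G a ⊓ stabilizer G b with hE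
  -- the torus
  have hmemE : ∀ g : E, ∀ u : U, (g : G) * u * (g : G)⁻¹ ∈ U := fun g u => hUn _ g.2.1 _ u.2
  let autE : E → MulAut U := fun g =>
    { toFun := fun u => ⟨(g : G) * u * (g : G)⁻¹, hmemE g u⟩
      invFun := fun u => ⟨(g : G)⁻¹ * u * (g : G), by simpa using hmemE g⁻¹ u⟩
      left_inv := fun u => Subtype.ext (by simp [mul_assoc])
      right_inv := fun u => Subtype.ext (by simp [mul_assoc])
      map_mul' := fun u v => Subtype.ext (by simp [mul_assoc]) }
  let ψ : E →* MulAut U := MonoidHom.mk' autE fun g g' =>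
    MulEquiv.ext fun u => Subtype.ext (by simp [autE, mul_assoc])
  have hfpf : ∀ g g' : E, ∀ u : U, u ≠ 1 → ψ g u = ψ g' u → g = g' := by
    intro g g' u hu he
    have he' : (g : G) * u * (g : G)⁻¹ = (g' : G) * u * (g' : G)⁻¹ := congrArg Subtype.val he
    have hmem : (g' : G)⁻¹ * g ∈ Subgroup.centralizer ({(u : G)} : Set G) := by
      rw [Subgroup.mem_centralizer_singleton_iff]
      calc (g' : G)⁻¹ * g * u = (g' : G)⁻¹ * ((g : G) * u * (g : G)⁻¹) * g := by group
        _ = u * ((g' : G)⁻¹ * g) := by rw [he']; group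
    have hmemU := Feit.centralizer_le hZ U hUle hUΩ hfix u.2 (fun e => hu (Subtype.ext e)) hmem
    by_contra hgg
    have hw : ((g' : G)⁻¹ * g) • b = b := (mul_mem (inv_mem g'.2) g.2 : ((g' : G)⁻¹ * g) ∈ E).2
    exact hab (hfix _ hmemU (fun e => hgg (Subtype.ext (inv_mul_eq_one.1 e).symm)) b hw).symm
  obtain ⟨hcen, -⟩ := Cfsg.Agent.S1137.result hS
  set K := ψ.range with hK
  have hT : IsTorus K := by
    refine ⟨inferInstance, hU2, hUna, hS.2.2.2.1, ?_, ?_⟩
    · haveI := hEcyc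
      exact isCyclic_of_surjective ψ.rangeRestrict ψ.rangeRestrict_surjective
    intro x y hx1 hx2 hy1 hy2
    obtain ⟨hxZ, -⟩ := (hcen x).1 ⟨hx1, hx2⟩
    obtain ⟨hyZ, -⟩ := (hcen y).1 ⟨hy1, hy2⟩
    obtain ⟨g, hg, hgxy⟩ := htrans x hxZ hx1 y hyZ hy1
    refine ⟨⟨ψ ⟨g, hg⟩, ⟨g, hg⟩, rfl⟩, Subtype.ext hgxy, ?_⟩
    rintro ⟨k, g', rfl⟩ hk
    exact Subtype.ext (congrArg ψ (hfpf g' ⟨g, hg⟩ x hx1 (hk.trans (Subtype.ext hgxy).symm)))
  obtain ⟨F, iF, iFF, iC, η, κ, hC⟩ := hT.exists_coord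
  have hFq : Fintype.card F = 2 ^ n := (card_center hT hC).symm.trans hZcard
  obtain ⟨φ, W, r, hminj, hrb, hWb, hWmul, hWk⟩ := exists_coordinates hT hC (by rw [hUcard, hFq])
  -- the torus parametrised by the scalars
  have hψinj : Function.Injective ψ := fun g g' e => by
    obtain ⟨u₀, v₀, huv⟩ := hUna
    have hu : u₀ ≠ 1 := fun e => huv (by rw [e, one_mul, mul_one])
    exact hfpf g g' u₀ hu (by rw [e])
  let r' : E →* Fˣ := r.comp ψ.rangeRestrict
  have hr'b : Function.Bijective r' :=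
    hrb.comp ⟨fun g g' e => hψinj (congrArg Subtype.val e), ψ.rangeRestrict_surjective⟩
  let H : Fˣ →* G := E.subtype.comp (MulEquiv.ofBijective r' hr'b).symm.toMonoidHom
  have hHmem : ∀ k, H k ∈ E := fun k => ((MulEquiv.ofBijective r' hr'b).symm k).2
  have hHr : ∀ k, r' ⟨H k, hHmem k⟩ = k := fun k => (MulEquiv.ofBijective r' hr'b).apply_symm_apply k
  -- the involution
  obtain ⟨τ, hτa, hτb⟩ := exists_swapper hZ hab
  have hinv : ∀ g ∈ E, τ * g * τ⁻¹ = g⁻¹ := fun g hg => swap_inverts hZ hab hodd hτa hτb hg.1 hg.2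
  have hττ : τ * τ = 1 := by
    have hmem : τ * τ ∈ E := ⟨by
      show (τ * τ) • a = a
      rw [mul_smul, hτa, hτb], by
      show (τ * τ) • b = b
      rw [mul_smul, hτb, hτa]⟩
    have h := hinv _ hmem
    rw [show τ * (τ * τ) * τ⁻¹ = τ * τ by group] at h
    have h2 : (⟨τ * τ, hmem⟩ : E) ^ 2 = 1 := Subtype.ext (by
      show (τ * τ) ^ 2 = 1
      rw [pow_two]
      nth_rewrite 2 [h]
      exact mul_inv_cancel (τ * τ))
    have h3 : orderOf (⟨τ * τ, hmem⟩ : E) ∣ 1 := by
      have ha := orderOf_dvd_of_pow_eq_one h2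
      have hb := orderOf_dvd_natCard (⟨τ * τ, hmem⟩ : E)
      exact (Nat.coprime_two_left.2 hodd).symm.gcd_eq_one ▸ Nat.dvd_gcd hb ha
    exact congrArg Subtype.val (orderOf_eq_one_iff.1 (Nat.dvd_one.1 h3))
  have hτinv : τ⁻¹ = τ := inv_eq_of_mul_eq_one_right hττ
  let S : Setup G Ω F :=
    { φ := φ
      U := fun x y => (W x y : G)
      H := H
      τ := τ
      inf := a
      zero := b
      U_mul := fun x y z w => by rw [← Subgroup.coe_mul, hWmul]
      H_U := fun k x y => by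
        have h := hWk (ψ.rangeRestrict ⟨H k, hHmem k⟩) x y
        rw [show r (ψ.rangeRestrict ⟨H k, hHmem k⟩) = k from hHr k] at h
        have h' : H k * (W x y : G) * (H k)⁻¹ = (W (k * x) (k * φ k * y) : G) := congrArg Subtype.val h
        exact mul_inv_eq_iff_eq_mul.1 h'
      τ_sq := hττ
      τ_H := fun k => by
        rw [map_inv]
        exact mul_inv_eq_iff_eq_mul.1 (hinv _ (hHmem k))
      τ_inf := hτa
      U_inf := fun x y => hUle (W x y).2
      H_inf := fun k => (hHmem k).1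
      H_zero := fun k => (hHmem k).2
      ne_inf := fun x y h => hab (MulAction.injective (W x y : G) (h.trans (hUle (W x y).2).symm)).symm
      inj := fun x y z w h => by
        have h1 := (hreg b _ hab.symm (fun e => hab (MulAction.injective (W z w : G)
          (e.trans (hUle (W z w).2).symm)).symm)).unique h rfl
        have h2 := hWb.1 (a₁ := (x, y)) (a₂ := (z, w)) h1
        exact ⟨congrArg Prod.fst h2, congrArg Prod.snd h2⟩
      surj := fun x hx => by
        obtain ⟨u, hu, -⟩ := hreg b x hab.symm hx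
        obtain ⟨⟨p, p'⟩, hp⟩ := hWb.2 u
        exact ⟨p, p', by rw [show W p p' = u from hp]; exact hu⟩
      stab := fun g hg => by
        obtain ⟨u, hu, -⟩ := hreg b (g • b) hab.symm
          (fun e => hab (MulAction.injective g (hg.trans e.symm)))
        obtain ⟨⟨p, p'⟩, hp⟩ := hWb.2 u
        have hmem : (u : G)⁻¹ * g ∈ E := by
          refine ⟨?_, ?_⟩
          · show ((u : G)⁻¹ * g) • a = a
            rw [mul_smul, hg, inv_smul_eq_iff, hUle u.2]
          · show ((u : G)⁻¹ * g) • b = b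
            rw [mul_smul, inv_smul_eq_iff]
            exact hu.symm
        refine ⟨p, p', r' ⟨_, hmem⟩, ?_⟩
        rw [show W p p' = u from hp]
        show g = (u : G) * (((MulEquiv.ofBijective r' hr'b).symm (r' ⟨_, hmem⟩) : E) : G)
        rw [show (MulEquiv.ofBijective r' hr'b).symm (r' ⟨_, hmem⟩) = ⟨_, hmem⟩ from
          (MulEquiv.ofBijective r' hr'b).symm_apply_apply _, mul_inv_cancel_left]
      faithful := fun g hg => eq_one_of_fix_all hZ hg
      minj := hminj }
  obtain ⟨m, rfl⟩ := hn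
  haveI : Fact (Nat.Prime 2) := ⟨Nat.prime_two⟩
  let F₀ := GaloisField 2 (2 * m + 1)
  letI : Fintype F₀ := Fintype.ofFinite F₀
  have hF₀ : Fintype.card F₀ = 2 ^ (2 * m + 1) := by
    rw [← Nat.card_eq_fintype_card]; exact GaloisField.card 2 _ (by omega)
  let e : F₀ ≃+* F := FiniteField.ringEquivOfCardEq (hF₀.trans hFq.symm)
  haveI : CharP F₀ 2 := inferInstance
  exact (S.mapField e).isoSuzuki (show 1 ≤ m by omega) hF₀

end CfsgLib.SuzukiIdent
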