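import Mathlib.Algebra.CharP.Two
import Mathlib.FieldTheory.Finite.Basic

/-!
The field identity behind the uniqueness of the Suzuki groups: it forces the parameter into the prime field
and the squared twist to be the Frobenius map.
-/

set_option autoImplicit false

namespace CfsgLib.SuzukiIdent

variable {F : Type*} [Field F] [CharP F 2]

/-- The identity satisfied by the parameters `(φ, b, c)` of a Zassenhaus group with Suzuki kernel. -/
structure Param (φ : F ≃+* F) (b : F) (c : F → F) : Prop where
  rel : ∀ u, (1 + b) * (φ (c u) + u) + b * (c u + φ u) = 0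
  inj : ∀ x, b * x + (1 + b) * φ x = 0 → x = 0
  ident : ∀ u, (1 + u + c u * c u) * φ (1 + u + c u * c u) =
    (1 + c u + φ (c u)) * ((1 + u + c u) * φ (1 + u + c u))

namespace Param

variable {φ : F ≃+* F} {b : F} {c : F → F}

theorem fixed (h : Param φ b c) {x : F} (hx : φ x = x) : x = 0 ∨ x = 1 := by
  have h2 : (2 : F) = 0 := CharTwo.two_eq_zero
  have hcx : c x = x := by
    have hr := h.rel x
    rw [hx] at hr
    have h0 : b * (c x + x) + (1 + b) * φ (c x + x) = 0 := by
      rw [map_add, hx]; linear_combination hr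
    have := h.inj _ h0
    exact CharTwo.add_eq_zero.1 this
  have hi := h.ident x
  simp only [hcx, map_add, map_one, map_mul, hx] at hi
  have : (x * (x + 1)) * (x * (x + 1)) = 0 := by
    linear_combination hi + (2 * x ^ 2 + 4 * x ^ 3) * 0 + (3 * x + 4 * x ^ 2 + 4 * x ^ 3 + (-x + x ^ 2)) * h2
  rcases mul_eq_zero.1 (mul_self_eq_zero.1 this) with h0 | h1
  · exact Or.inl h0
  · exact Or.inr (CharTwo.add_eq_zero.1 h1)

/-- The parameter lies in the prime field. -/
theorem b_mem [Finite F] (h : Param φ b c) : b = 0 ∨ b = 1 := by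
  by_contra! hb
  obtain ⟨hb0, hb1⟩ := hb
  have hb1' : 1 + b ≠ 0 := fun e => hb1 (CharTwo.add_eq_zero.1 e).symm
  let g : Fˣ → Fˣ := fun x => Units.map φ.toMonoidHom x * x⁻¹
  have hg : Function.Injective g := by
    intro x y e
    have e' : φ (x : F) * (x : F)⁻¹ = φ (y : F) * (y : F)⁻¹ := by
      have := congrArg (fun u : Fˣ => (u : F)) e
      simpa [g] using this
    have hfix : φ ((x : F) / y) = (x : F) / y := by
      rw [map_div₀]
      field_simp at e' ⊢
      linear_combination e'
    rcases h.fixed hfix with h0 | h1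
    · exact absurd h0 (div_ne_zero x.ne_zero y.ne_zero)
    · exact Units.ext ((div_eq_one_iff_eq y.ne_zero).1 h1)
  obtain ⟨x, hx⟩ := Finite.injective_iff_surjective.1 hg (Units.mk0 (b / (1 + b)) (div_ne_zero hb0 hb1'))
  have hx' : φ (x : F) * (x : F)⁻¹ = b / (1 + b) := by
    have := congrArg (fun u : Fˣ => (u : F)) hx
    simpa [g] using this
  refine x.ne_zero (h.inj _ ?_)
  field_simp at hx'
  linear_combination hx' + (b * (x : F)) * (CharTwo.two_eq_zero : (2 : F) = 0)

/-- If `b = 0` the square of the twist is the Frobenius map. -/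
theorem phi_phi [Finite F] (h : Param φ 0 c) (x : F) : φ (φ x) = x * x := by
  have h2 : (2 : F) = 0 := CharTwo.two_eq_zero
  have hu : ∀ u, φ (c u) = u := fun u => by
    have := h.rel u
    simp only [add_zero, one_mul, zero_mul] at this
    exact CharTwo.add_eq_zero.1 this
  have hsurj : Function.Surjective c := Finite.injective_iff_surjective.1 fun u v e => by
    rw [← hu u, e, hu]
  obtain ⟨u, rfl⟩ := hsurj x
  have hi := h.ident u
  obtain ⟨C, hC⟩ : ∃ C, c u = C := ⟨_, rfl⟩
  have hue : u = φ C := by rw [← hC, hu]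
  rw [hC] at hi ⊢
  rw [hue] at hi
  simp only [map_add, map_one, map_mul] at hi
  have : (φ C + φ C * φ C) * (φ (φ C) + C * C) = 0 := by
    linear_combination hi + (-1 : F) * 0 +
      ((φ C) + C + 2 * C * φ C + φ C * φ C + C * φ (φ C) + φ (φ C) * φ C + C * φ C * φ C
        + C * φ C * φ (φ C) + φ C * C * C + φ C * φ C * φ (φ C)) * h2
  rcases mul_eq_zero.1 this with h0 | h0
  · have h1 : φ C * (1 + φ C) = 0 := by linear_combination h0
    rcases mul_eq_zero.1 h1 with h3 | h3
    · rw [(map_eq_zero φ).1 h3]; simp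
    · have h4 : φ C = 1 := (CharTwo.add_eq_zero.1 h3).symm
      have : C = 1 := φ.injective (by rw [h4, map_one])
      subst this; simp
  · exact CharTwo.add_eq_zero.1 h0

/-- Passing to the inverse twist exchanges `b` with `1 + b`. -/
theorem swap (h : Param φ b c) : Param φ.symm (φ.symm (1 + b)) c := by
  have h2 : (2 : F) = 0 := CharTwo.two_eq_zero
  obtain ⟨b', hb', rfl⟩ : ∃ b', φ.symm (1 + b) = b' ∧ b = 1 + φ b' := ⟨_, rfl, by
    rw [φ.apply_symm_apply]; linear_combination -h2⟩
  rw [hb']
  refine ⟨fun u => ?_, fun x hx => ?_, fun u => ?_⟩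
  · have := congrArg φ.symm (h.rel u)
    simp only [map_add, map_mul, map_one, map_zero, φ.symm_apply_apply] at this
    linear_combination this + (-(c u) - φ.symm u) * h2
  · refine h.inj _ ?_
    have := congrArg φ hx
    simp only [map_add, map_mul, map_one, map_zero, φ.apply_symm_apply] at this
    linear_combination this + φ x * h2
  · have := congrArg φ.symm (h.ident u)
    simp only [map_add, map_mul, map_one, φ.symm_apply_apply] at this ⊢
    linear_combination this

/-- The two possibilities. -/
theorem classify [Finite F] (h : Param φ b c) :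
    (b = 0 ∧ ∀ x, φ (φ x) = x * x) ∨ (b = 1 ∧ ∀ x, φ.symm (φ.symm x) = x * x) := by
  rcases h.b_mem with rfl | rfl
  · exact Or.inl ⟨rfl, h.phi_phi⟩
  · refine Or.inr ⟨rfl, Param.phi_phi (c := c) ?_⟩
    have := h.swap
    rwa [CharTwo.add_self_eq_zero, map_zero] at this

end Param

end CfsgLib.SuzukiIdent
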