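import Cfsg.Agent.Lib.SuzukiIdent.Zassenhaus
import Cfsg.Agent.Lib.CIT.Main
import Cfsg.Agent.Lib.CIT.PSLTwo
import Cfsg.Agent.S0205

/-!
Classifications naming the Suzuki groups themselves: simple Zassenhaus groups, and simple groups in which
involution centralisers are 2-groups.
-/

set_option autoImplicit false
set_option linter.unusedSectionVars false

open MulAction Cfsg Matrix

namespace CfsgLib.SuzukiIdent

open CfsgLib.RealChar.Zassenhaus CfsgLib.SharplyEven CfsgLib.SharplyEven.SimpleZassenhaus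

variable {G Ω : Type*} [Group G] [Finite G] [MulAction G Ω] [Fintype Ω]

/-- Simple Zassenhaus groups: `PSL₂` or `Sz`. -/
theorem simple_zassenhaus (hZ : Cfsg.IsZassenhausGroup G Ω) [IsSimpleGroup G] :
    (∃ (F : Type) (_ : Field F) (_ : Fintype F),
      Nonempty (G ≃* Matrix.ProjectiveSpecialLinearGroup (Fin 2) F)) ∨ Cfsg.Lie.IsoSuzuki G := by
  classical
  have h3 := three_le_card hZ
  obtain ⟨a, b, hab⟩ := Fintype.exists_pair_of_one_lt_card (show 1 < Fintype.card Ω by omega)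
  -- the abelian case
  have habelian : ∀ F : Subgroup G, F ≤ stabilizer G a → (F.subgroupOf (stabilizer G a)).Normal →
      IsMulCommutative F → (∀ y z : Ω, y ≠ a → z ≠ a → ∃! u : F, (u : G) • y = z) →
      ∃ (F : Type) (_ : Field F) (_ : Fintype F),
        Nonempty (G ≃* Matrix.ProjectiveSpecialLinearGroup (Fin 2) F) := by
    intro F hFle hFn hFab hreg
    rcases CfsgLib.AltGroups.zassenhaus_abelian_kernel hZ (Ne.symm hab) F hFle hFn hFab hreg with
      hd | ⟨-, K, i, j, -, -, hiso⟩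
    swap
    · exact ⟨K, i, j, hiso⟩
    rcases Nat.even_or_odd (Fintype.card Ω) with hev | hodd
    · exact absurd ‹IsSimpleGroup G› ((Sharp.of_card hab hZ hd hev).not_simple hZ)
    haveI := hZ.1
    obtain ⟨K, i, j, hK, ⟨iso⟩⟩ := CfsgLib.AltGroups.sharply_three_transitive_odd_degree (G := G) (Ω := Ω)
      (fun p q r p' q' r' h1 h2 h3' h4 h5 h6 => by
        obtain ⟨h3t, hfix⟩ := CfsgLib.AltGroups.sharply_three_transitive_of_card hZ (Ne.symm hab) hd
        have emb : ∀ x y z : Ω, x ≠ y → y ≠ z → x ≠ z → Function.Injective ![x, y, z] := by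
          intro x y z hxy hyz hxz i j hij
          fin_cases i <;> fin_cases j <;> simp_all [eq_comm]
        haveI := h3t
        obtain ⟨g, hg⟩ := MulAction.exists_smul_eq G (α := Fin 3 ↪ Ω) ⟨![p, q, r], emb p q r h1 h2 h3'⟩
          ⟨![p', q', r'], emb p' q' r' h4 h5 h6⟩
        refine ⟨g, ⟨DFunLike.congr_fun hg 0, DFunLike.congr_fun hg 1, DFunLike.congr_fun hg 2⟩, fun k hk => ?_⟩
        refine (inv_mul_eq_one.1 (hZ.2.2.1 (g⁻¹ * k) p q r h1 h2 h3' ?_ ?_ ?_)).symm
        · rw [mul_smul, hk.1, inv_smul_eq_iff]; exact (DFunLike.congr_fun hg 0).symm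
        · rw [mul_smul, hk.2.1, inv_smul_eq_iff]; exact (DFunLike.congr_fun hg 1).symm
        · rw [mul_smul, hk.2.2, inv_smul_eq_iff]; exact (DFunLike.congr_fun hg 2).symm) hodd h3
    have hKev : Even (Fintype.card K) := by
      rw [← hK] at hodd
      simpa [Nat.odd_add_one] using hodd
    exact ⟨K, i, j, ⟨iso.trans (MulEquiv.ofBijective _ (toPGL_bijective_of_even hKev)).symm⟩⟩
  rcases Nat.even_or_odd (Nat.card (stabilizer G a ⊓ stabilizer G b : Subgroup G)) with he | ho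
  · obtain ⟨F, hFle, hFn, hFab, hreg⟩ := CfsgLib.AltGroups.exists_kernel_of_even hZ (Ne.symm hab) he
    exact Or.inl (habelian F hFle hFn hFab hreg)
  obtain ⟨H, hHa, hHc, hHf⟩ := exists_kernel_subgroup hZ a
  have hn := CfsgLib.CyclicTI.TIInd.subgroupOf_normal (H := H) (L := stabilizer G a)
    fun x hx u hu => kernel_conj_mem hZ a H hHa hHc hHf hx hu
  have hreg : ∀ y z : Ω, y ≠ a → z ≠ a → ∃! u : H, (u : G) • y = z := by
    intro y z hy hz
    obtain ⟨u, hu, huz⟩ := kernel_regular hZ a H hHa hHc hHf hy hz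
    refine ⟨⟨u, hu⟩, huz, fun v hv => Subtype.ext ?_⟩
    by_contra hne
    refine hy (hHf _ (mul_mem (inv_mem hu) v.2) (fun e => hne (inv_mul_eq_one.1 e).symm) y ?_)
    rw [mul_smul, hv, inv_smul_eq_iff, huz]
  obtain ⟨h, hh⟩ : ∃ h, Fintype.card Ω = h + 1 := ⟨Fintype.card Ω - 1, by omega⟩
  by_cases hle : h - 1 ≤ 2 * Nat.card (stabilizer G a ⊓ stabilizer G b : Subgroup G)
  · obtain ⟨hab', -⟩ := Cfsg.Agent.S0738.result hZ hab (by omega) H hHa hn hreg
    exact Or.inl (habelian H hHa hn hab' hreg)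
  · obtain ⟨h2, hna, -⟩ := (Feit.main hZ hab h _ hh rfl ho H hHa hHc hHf).resolve_left hle
    exact Or.inr (isoSuzuki_of_zassenhaus hZ hab H hHa
      (fun g hg u hu => kernel_conj_mem hZ a H hHa hHc hHf hg hu) hreg h2 hna)

open CfsgLib.CIT in
/-- Simple groups with involution centralisers 2-groups: `PSL₂`, `PSL₃(4)` or `Sz`. -/
theorem simple_cit {G : Type*} [Group G] [Finite G] [IsSimpleGroup G]
    (hG : ∃ a b : G, a * b ≠ b * a) (hCIT : IsCIT G) :
    (∃ (F : Type) (_ : Field F) (_ : Fintype F),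
        (Fintype.card F = 9 ∨ (∃ n : ℕ, Fintype.card F = 2 ^ n) ∨
          ((Fintype.card F).Prime ∧ ∃ k : ℕ, Fintype.card F = 2 ^ k + 1 ∨ Fintype.card F + 1 = 2 ^ k)) ∧
        Nonempty (G ≃* Matrix.ProjectiveSpecialLinearGroup (Fin 2) F)) ∨
    (∃ (F : Type) (_ : Field F) (_ : Fintype F), Fintype.card F = 4 ∧
        Nonempty (G ≃* Matrix.ProjectiveSpecialLinearGroup (Fin 3) F)) ∨
    Cfsg.Lie.IsoSuzuki G := by
  classical
  have : Fact (Nat.Prime 2) := ⟨Nat.prime_two⟩
  have h2 : 2 ∣ Nat.card G := by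
    by_contra h
    have hodd : Odd (Nat.card G) := Nat.odd_iff.2 (by omega)
    have := Cfsg.Agent.S0205.result hodd
    obtain ⟨a, b, hab⟩ := hG
    exact hab (IsSimpleGroup.comm_iff_isSolvable.2 this a b)
  rcases CfsgLib.CIT.refined G hCIT hG h2 with hTI | ⟨-, F, _, _, -, ⟨e⟩⟩ | ⟨-, F, _, _, hF, he⟩
  · have hO := pCore_eq_bot_of_simple hG
    obtain ⟨S⟩ : Nonempty (Sylow 2 G) := inferInstance
    obtain ⟨z, -, -, hcfg⟩ := hTI.tiConfig hCIT hO h2 S
    have hm : 1 < TIConfig.m (Subgroup.normalizer ((S : Subgroup G) : Set G)) (S : Subgroup G) := by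
      by_contra hm
      have hm1 := TIConfig.m_pos (M := Subgroup.normalizer ((S : Subgroup G) : Set G)) (H := (S : Subgroup G))
      obtain ⟨N, hN, hodd, hne⟩ := hTI.exists_complement hCIT hO h2 S (by omega)
      have hT := hN.eq_bot_or_eq_top.resolve_left hne
      rw [hT, Subgroup.card_top] at hodd
      exact absurd h2 (by obtain ⟨k, hk⟩ := hodd; omega)
    haveI := Fintype.ofFinite (G ⧸ Subgroup.normalizer ((S : Subgroup G) : Set G))
    rcases simple_zassenhaus (hcfg.zassenhaus hm) with ⟨F, _, _, ⟨e⟩⟩ | hS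
    · exact Or.inl ⟨F, inferInstance, inferInstance,
        CfsgLib.CIT.card_of_isCIT_psl (CfsgLib.CIT.IsCIT.of_equiv hCIT e), ⟨e⟩⟩
    · exact Or.inr (Or.inr hS)
  · exact Or.inl ⟨F, inferInstance, inferInstance,
      CfsgLib.CIT.card_of_isCIT_psl (CfsgLib.CIT.IsCIT.of_equiv hCIT e), ⟨e⟩⟩
  · exact Or.inr (Or.inl ⟨F, inferInstance, inferInstance, hF, he⟩)

end CfsgLib.SuzukiIdent
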