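import Cfsg.Agent.Lib.SuzukiIdent.Iso

/-!
The Suzuki matrix group has a setup, and any group with a setup is a Suzuki group.
-/

set_option autoImplicit false

open Cfsg CfsgLib.Suzuki

namespace CfsgLib.SuzukiIdent

variable {F : Type*} [Field F] [Finite F] {m : ℕ}

/-- The Tits automorphism. -/
noncomputable def twist (h : Hyp F m) : F ≃+* F :=
  RingEquiv.ofBijective
    ({ toFun := th m, map_one' := th_one m, map_mul' := th_mul m, map_zero' := th_zero m,
       map_add' := h.th_add } : F →+* F)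
    (Finite.injective_iff_bijective.1 fun _ _ e => h.th_injective e)

theorem twist_apply (h : Hyp F m) (x : F) : twist h x = th m x := rfl

theorem exists_model (h : Hyp F m) :
    ∃ S : Setup (Cfsg.Sz F m) (Cfsg.suzukiOvoid F m) F, S.φ = twist h := by
  let H : Fˣ →* Cfsg.Sz F m := h.dG.comp (Units.map (twist h).symm.toMonoidHom)
  have hk : ∀ k : Fˣ, kap m (Units.map (twist h).symm.toMonoidHom k) = (k : F) := fun k => by
    show twist h _ = _
    exact (twist h).apply_symm_apply _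
  have := h.faithfulSMul
  refine ⟨
    { φ := twist h
      U := h.u
      H := H
      τ := h.w
      inf := oInf F m
      zero := oPt m 0 0
      U_mul := fun a b c d => h.u_mul a b c d
      H_U := fun k a b => ?_
      τ_sq := h.w_mul_self
      τ_H := fun k => ?_
      τ_inf := h.w_smul_inf
      U_inf := h.u_smul_inf
      H_inf := fun k => h.d_smul_inf _
      H_zero := fun k => h.d_smul_zero _
      ne_inf := fun a b => by rw [h.u_smul_zero]; exact oPt_ne_oInf a b
      inj := fun a b c d e => by rw [h.u_smul_zero, h.u_smul_zero] at e; exact oPt_injective e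
      surj := fun x hx => ?_
      stab := fun g hg => ?_
      faithful := fun g hg => eq_of_smul_eq_smul fun x => by rw [hg, one_smul]
      minj := fun x y e => ?_ }, rfl⟩
  · show h.d _ * h.u a b = h.u ((k : F) * a) ((k : F) * twist h k * b) * h.d _
    rw [← mul_inv_eq_iff_eq_mul, h.d_u, hk, twist_apply]
    congr 1
    ring
  · show h.w * h.d (Units.map (twist h).symm.toMonoidHom k) = H k⁻¹ * h.w
    have e := h.w_d (Units.map (twist h).symm.toMonoidHom k)
    have e2 : H k⁻¹ = h.d (Units.map (twist h).symm.toMonoidHom k)⁻¹ := by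
      show h.d (Units.map (twist h).symm.toMonoidHom k⁻¹) = _
      rw [map_inv]
    rw [e2, ← e, mul_assoc, h.w_mul_self, mul_one]
  · rcases ovoid_cases x with rfl | ⟨a, b, rfl⟩
    · exact absurd rfl hx
    · exact ⟨a, b, h.u_smul_zero a b⟩
  · obtain ⟨a, b, t, ht⟩ := h.eq_u_mul_d hg
    refine ⟨a, b, Units.map (twist h).toMonoidHom t, ?_⟩
    show g = h.u a b * h.d (Units.map (twist h).symm.toMonoidHom (Units.map (twist h).toMonoidHom t))
    rw [show Units.map (twist h).symm.toMonoidHom (Units.map (twist h).toMonoidHom t) = t from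
      Units.ext ((twist h).symm_apply_apply _)]
    exact ht
  · refine Units.ext (h.th_mul_self_bijective.1 ?_)
    simp only [twist_apply] at e
    linear_combination e

/-- A group with a setup is a Suzuki group. -/
theorem Setup.isoSuzuki {G Ω : Type*} {F : Type} [Group G] [Finite G] [MulAction G Ω] [Field F]
    [Fintype F] [CharP F 2] (S : Setup G Ω F) {m : ℕ} (hm : 1 ≤ m)
    (hF : Fintype.card F = 2 ^ (2 * m + 1)) : Cfsg.Lie.IsoSuzuki G := by
  classical
  have h := Hyp.of_fintype hm hF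
  obtain ⟨S₁, b, hN⟩ := S.exists_isNorm
  obtain ⟨c, hc⟩ := Setup.exists_param hN
  -- normalise the parameter
  obtain ⟨S₂, hN₂, hsq⟩ : ∃ S₂ : Setup G Ω F, S₂.IsNorm 0 ∧ ∀ x, S₂.φ (S₂.φ x) = x * x := by
    rcases hc.classify with ⟨rfl, hsq⟩ | ⟨rfl, hsq⟩
    · exact ⟨S₁, hN, hsq⟩
    · obtain ⟨S₂, hφ, hN₂⟩ := S₁.exists_swap hN rfl
      exact ⟨S₂, hN₂, fun x => by rw [hφ]; exact hsq x⟩
  haveI := h.finite_group
  obtain ⟨M, hM⟩ := exists_model h
  obtain ⟨M₁, b₁, hM₁⟩ := M.exists_isNorm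
  obtain ⟨c₁, hc₁⟩ := Setup.exists_param hM₁
  -- the model has parameter `0`
  obtain ⟨M₂, hM₂, hsq₁⟩ : ∃ M₂ : Setup (Cfsg.Sz F m) (Cfsg.suzukiOvoid F m) F,
      M₂.IsNorm 0 ∧ ∀ x, M₂.φ (M₂.φ x) = x * x := by
    rcases hc₁.classify with ⟨rfl, hsq'⟩ | ⟨rfl, hsq'⟩
    · exact ⟨M₁, hM₁, hsq'⟩
    · obtain ⟨M₂, hφ, hN'⟩ := M₁.exists_swap hM₁ rfl
      exact ⟨M₂, hN', fun x => by rw [hφ]; exact hsq' x⟩
  have hφ : M₂.φ = S₂.φ := RingEquiv.ext fun x => by
    rw [twist_eq hm hF _ hsq₁, twist_eq hm hF _ hsq]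
  obtain ⟨e⟩ := nonempty_equiv S₂ M₂ hφ hN₂ hM₂
  exact ⟨F, inferInstance, inferInstance, m, hm, hF, ⟨e.trans h.lieEquiv⟩⟩

end CfsgLib.SuzukiIdent
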