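import Cfsg.Agent.Lib.SuzukiTwo.OrderSq
import Cfsg.Agent.Lib.SuzukiIdent.Model

/-!
Coordinates of type A for a Suzuki 2-group of order `q²` that are compatible with the torus.
-/

set_option autoImplicit false

namespace CfsgLib.SuzukiIdent

open CfsgLib.SuzukiTwo
open scoped commutatorElement

universe u

variable {P : Type u} [Group P] {F : Type u} [Field F] [Fintype F] [CharP F 2]
variable {K : Subgroup (MulAut P)} {η : F → P} {κ : K →* Fˣ}

/-- The coordinates of type A, with the centre parametrised by `η`. -/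
theorem exists_typeA_eta (hT : IsTorus K) (hC : IsCoord K η κ)
    (hcard : Nat.card P = Fintype.card F ^ 2) :
    ∃ (φ : F ≃+* F) (π : P →* Multiplicative F),
      Odd (orderOf φ) ∧ Function.Surjective π ∧
      (∀ a, π a = 1 ↔ ∃ z, a = η z) ∧
      ∀ a, a * a = η ((π a).toAdd * φ (π a).toAdd) := by
  classical
  have := hT.finite
  have htop := layer_center_eq_top hT hC
  have hmem : ∀ y : P, y ∈ layer (Subgroup.center P) := fun y => htop ▸ Subgroup.mem_top y
  set Z := Subgroup.center P with hZ
  have hcomm : ∀ a b : P ⧸ Z, a * b = b * a := by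
    intro a b
    induction a using QuotientGroup.induction_on with | _ a =>
    induction b using QuotientGroup.induction_on with | _ b =>
    rw [← QuotientGroup.mk_mul, ← QuotientGroup.mk_mul, QuotientGroup.eq]
    simpa [commutatorElement_def, mul_assoc] using (mem_layer.1 (hmem a⁻¹)).2 b⁻¹
  letI : CommGroup (P ⧸ Z) := { (inferInstance : Group (P ⧸ Z)) with mul_comm := hcomm }
  have hwd : ∀ a b : P, a⁻¹ * b ∈ Z → sqc η a = sqc η b := by
    intro a b h
    have e : b = a * (a⁻¹ * b) := by group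
    rw [e, sqc_mul hT hC (hmem a) (hmem _), sqc_center hT hC h,
      commutatorElement_eq_one_iff_mul_comm.2 (Subgroup.mem_center_iff.1 h a).symm,
      hC.lg_one, add_zero, add_zero]
  let Qv : Additive (P ⧸ Z) → F := fun x => Quotient.liftOn' x.toMul (fun a => sqc η a)
    (fun a b h => hwd a b (QuotientGroup.leftRel_apply.1 h))
  have hQmk : ∀ a : P, Qv (Additive.ofMul (a : P ⧸ Z)) = sqc η a := fun a => rfl
  have hrep : ∀ x : Additive (P ⧸ Z), ∃ a : P, x = Additive.ofMul (a : P ⧸ Z) := fun x => by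
    obtain ⟨a, ha⟩ := QuotientGroup.mk_surjective x.toMul
    exact ⟨a, by rw [ha]; rfl⟩
  have hcardV : Nat.card (Additive (P ⧸ Z)) = Fintype.card F := by
    have h := Subgroup.card_eq_card_quotient_mul_card_subgroup Z
    rw [hcard, hZ, card_center hT hC, pow_two] at h
    exact (mul_right_cancel₀ Fintype.card_ne_zero h).symm
  have hQs : Function.Surjective Qv := by
    obtain ⟨y, hy, hyZ⟩ := exists_layer_not_center hT hC
    refine surjective_of_equivariant _ (fun c hc x => ?_)
      ⟨Additive.ofMul ((1 : P) : P ⧸ Z), (hQmk 1).trans (sqc_center hT hC (Subgroup.one_mem _))⟩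
      ⟨Additive.ofMul (y : P ⧸ Z), fun h => hyZ (sqc_eq_zero hT hC hy h)⟩
    obtain ⟨k, rfl⟩ := hC.exists_scalar hc
    obtain ⟨a, rfl⟩ := hrep x
    exact ⟨Additive.ofMul (((k : MulAut P) a : P) : P ⧸ Z), by
      rw [hQmk, hQmk, sqc_map hT hC k (hmem a)]⟩
  have hQb : Function.Bijective Qv := (Nat.bijective_iff_surjective_and_card Qv).2
    ⟨hQs, by rw [hcardV, Nat.card_eq_fintype_card]⟩
  let R := (Equiv.ofBijective Qv hQb).symm
  have hQR : ∀ t, Qv (R t) = t := (Equiv.ofBijective Qv hQb).apply_symm_apply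
  have hR0 : R 0 = 0 := hQb.1 ((hQR 0).trans
    ((hQmk 1).trans (sqc_center hT hC (Subgroup.one_mem _))).symm)
  obtain ⟨x, M, hx, hxadd, hM0, hMb, hxM⟩ := exists_addEquiv_of_homogeneous R R.bijective hR0
    (fun c hc => by
      obtain ⟨k, rfl⟩ := hC.exists_scalar hc
      refine ⟨MonoidHom.toAdditive (QuotientGroup.map Z Z (k : MulAut P).toMonoidHom
        fun z hz => map_mem_center _ hz), fun t => hQb.1 ?_⟩
      rw [hQR]
      obtain ⟨a, ha⟩ := hrep (R t)
      rw [ha]
      refine (hQmk ((k : MulAut P) a)).trans ?_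
      rw [sqc_map hT hC k (hmem a), ← hQmk a, ← ha, hQR])
  have hMx : ∀ v, M v = Qv (x v) := fun v => by rw [hxM, hQR]
  have hpol : ∀ a b : P, sqc η (a * b) + sqc η a + sqc η b = lg η ⁅b, a⁆ := by
    intro a b
    rw [sqc_mul hT hC (hmem a) (hmem b)]
    linear_combination CharTwo.add_self_eq_zero (sqc η a) + CharTwo.add_self_eq_zero (sqc η b)
  have hpolx : ∀ v (a : P), x v = Additive.ofMul (a : P ⧸ Z) → M v = sqc η a := fun v a h => by
    rw [hMx, h, hQmk]
  have hq : ∀ u v w : F, M (u + v + w) + M (u + v) + M (u + w) + M (v + w) + M u + M v + M w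
      = 0 := by
    intro u v w
    obtain ⟨a, ha⟩ := hrep (x u)
    obtain ⟨b, hb⟩ := hrep (x v)
    obtain ⟨c, hc⟩ := hrep (x w)
    have hsum : ∀ (p q : F) (a b : P), x p = Additive.ofMul (a : P ⧸ Z) →
        x q = Additive.ofMul (b : P ⧸ Z) → x (p + q) = Additive.ofMul ((a * b : P) : P ⧸ Z) :=
      fun p q a b h1 h2 => by rw [hxadd, h1, h2]; rfl
    have e1 := hpol (a * b) c
    have e2 := hpol a c
    have e3 := hpol b c
    rw [lg_commutator_mul_right hT hC (hmem a) (hmem b)] at e1
    rw [hpolx _ _ (hsum _ _ _ _ (hsum _ _ _ _ ha hb) hc), hpolx _ _ (hsum _ _ _ _ ha hb),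
      hpolx _ _ (hsum _ _ _ _ ha hc), hpolx _ _ (hsum _ _ _ _ hb hc), hpolx _ _ ha,
      hpolx _ _ hb, hpolx _ _ hc]
    linear_combination e1 + e2 + e3 + CharTwo.add_self_eq_zero (lg η ⁅c, a⁆) +
      CharTwo.add_self_eq_zero (lg η ⁅c, b⁆) - CharTwo.add_self_eq_zero (sqc η c)
  obtain ⟨σ, τ, hστ⟩ := exists_monomial M hM0 hq
  -- normalise
  let φ : F ≃+* F := σ.symm.trans τ
  have hMσ : ∀ v, M (σ.symm v) = v * φ v := fun v => by
    rw [hστ, σ.apply_symm_apply]; rfl
  have hodd : Odd (orderOf φ) := odd_orderOf φ (by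
    intro v w h
    refine σ.symm.injective (hMb.1 ?_)
    rw [hMσ, hMσ]
    exact h)
  let xe : F ≃+ Additive (P ⧸ Z) :=
    (σ.symm.toAddEquiv).trans (AddEquiv.ofBijective (AddMonoidHom.mk' x hxadd) hx)
  let π : P →* Multiplicative F :=
    (xe.symm.toAddMonoidHom.toMultiplicativeRight).comp (QuotientGroup.mk' Z)
  have hπ : ∀ a, xe ((π a).toAdd) = Additive.ofMul (a : P ⧸ Z) := fun a =>
    xe.apply_symm_apply _
  have hπsq : ∀ a, sqc η a = (π a).toAdd * φ (π a).toAdd := fun a => by
    rw [← hMσ]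
    exact (hpolx _ a (hπ a)).symm
  refine ⟨φ, π, hodd, ?_, ?_, fun a => ?_⟩
  · intro z
    obtain ⟨a, ha⟩ := hrep (xe z.toAdd)
    refine ⟨a, ?_⟩
    apply Multiplicative.toAdd.injective
    exact xe.injective ((hπ a).trans ha.symm)
  · intro a
    constructor
    · intro h
      have h1 : xe ((π a).toAdd) = 0 := by rw [h]; exact map_zero xe
      rw [hπ] at h1
      obtain ⟨v, hv⟩ := hC.mem_range a (center_sq_eq_one hT hC ((QuotientGroup.eq_one_iff a).1 h1))
      exact ⟨v, hv.symm⟩
    · rintro ⟨z, rfl⟩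
      have h1 : ((η z : P) : P ⧸ Z) = 1 :=
        (QuotientGroup.eq_one_iff _).2 (hT.involution_central (hC.sq _))
      apply Multiplicative.toAdd.injective
      refine xe.injective ?_
      rw [hπ, toAdd_one, map_zero]
      exact congrArg Additive.ofMul h1
  · rw [← hπsq]
    exact (hC.eta_lg (layer_sq hT hC (hmem a))).symm

/-- A twist of odd order leaves `x ↦ x φ(x)` injective on units. -/
theorem mul_twist_injective {φ : F ≃+* F} (hodd : Odd (orderOf φ)) (x y : Fˣ)
    (h : (x : F) * φ x = y * φ y) : x = y := by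
  have hx0 := x.ne_zero
  have hy0 := y.ne_zero
  have hφy : φ (y : F) ≠ 0 := (map_ne_zero φ).2 hy0
  set z : F := (x : F) / y with hz
  have hz0 : z ≠ 0 := div_ne_zero hx0 hy0
  have hzz : φ z = z⁻¹ := by
    rw [hz, map_div₀, inv_div]
    field_simp
    linear_combination h
  have hpow : ∀ j : ℕ, (φ ^ (2 * j + 1)) z = z⁻¹ := by
    intro j
    induction j with
    | zero => simpa using hzz
    | succ j ih =>
      rw [show 2 * (j + 1) + 1 = (2 * j + 1) + 1 + 1 by ring, pow_succ', pow_succ']
      show φ (φ ((φ ^ (2 * j + 1)) z)) = _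
      rw [ih, map_inv₀, hzz, inv_inv, hzz]
  obtain ⟨j, hj⟩ := hodd
  have h1 := hpow j
  rw [← hj, pow_orderOf_eq_one] at h1
  have h2 : z * z = 1 := by
    conv_lhs => arg 2; rw [show z = z⁻¹ from h1]
    exact mul_inv_cancel₀ hz0
  have h3 : z = 1 := CharTwo.add_eq_zero.1 (mul_self_eq_zero.1 (by
    linear_combination h2 + (z + 1) * (CharTwo.two_eq_zero : (2 : F) = 0) : (z + 1) * (z + 1) = 0))
  exact Units.ext ((div_eq_one_iff_eq hy0).1 h3)

/-- Coordinates in which the torus acts by scalars. -/
theorem exists_coordinates (hT : IsTorus K) (hC : IsCoord K η κ)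
    (hcard : Nat.card P = Fintype.card F ^ 2) :
    ∃ (φ : F ≃+* F) (W : F → F → P) (r : K →* Fˣ),
      (∀ x y : Fˣ, (x : F) * φ x = y * φ y → x = y) ∧ Function.Bijective r ∧
      Function.Bijective (fun p : F × F => W p.1 p.2) ∧
      (∀ a b c d, W a b * W c d = W (a + c) (b + d + φ a * c)) ∧
      ∀ (k : K) a b, (k : MulAut P) (W a b) = W (r k * a) (r k * φ (r k) * b) := by
  classical
  have h2 : (2 : F) = 0 := CharTwo.two_eq_zero
  have := hT.finite
  haveI : Finite K := Finite.of_injective (fun k : K => ((k : MulAut P) : P → P))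
    (fun k l h => Subtype.ext (MulEquiv.ext fun x => congrFun h x))
  haveI := Fintype.ofFinite K
  obtain ⟨φ, π, hodd, hπs, hker, hsq⟩ := exists_typeA_eta hT hC hcard
  have hminj := mul_twist_injective hodd
  have hηc : ∀ z a, η z * a = a * η z := fun z a =>
    (Subgroup.mem_center_iff.1 (hT.involution_central (hC.sq z)) a).symm
  have hη0 : η 0 = 1 := hC.eta_zero
  have hπη : ∀ z, π (η z) = 1 := fun z => (hker _).2 ⟨z, rfl⟩
  let p : P → F := fun a => (π a).toAdd
  have hpmul : ∀ a b, p (a * b) = p a + p b := fun a b => by simp [p]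
  have hpη : ∀ z, p (η z) = 0 := fun z => by simp [p, hπη]
  have hp1 : p 1 = 0 := by simp [p]
  -- the scalar of a torus element
  let g : Fˣ → Fˣ := fun x => x * Units.map φ.toMonoidHom x
  have hg : Function.Bijective g := Finite.injective_iff_bijective.1
    fun x y e => hminj x y (congrArg Units.val e)
  let gh : Fˣ ≃* Fˣ := MulEquiv.ofBijective
    (MonoidHom.mk' g fun x y => Units.ext (by simp [g]; ring)) hg
  let r : K →* Fˣ := gh.symm.toMonoidHom.comp κ
  have hr : ∀ k, ((r k : F) * φ (r k)) = (κ k : F) := fun k => by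
    have := congrArg Units.val (gh.apply_symm_apply (κ k))
    exact this
  have hrb : Function.Bijective r := by
    refine gh.symm.bijective.comp ⟨fun k l e => ?_, hC.surj⟩
    obtain ⟨x, hx1, hx2⟩ := hT.exists_involution
    obtain ⟨v, rfl⟩ := hC.mem_range x hx2
    have e' : (k : MulAut P) (η v) = (l : MulAut P) (η v) := by rw [hC.equiv, hC.equiv, e]
    exact (hT.regular _ ((k : MulAut P) (η v)) hx1 hx2 (by simpa using hx1)
      (IsTorus.map_invol hx2)).unique rfl e'.symm
  have hpk : ∀ (k : K) a, p ((k : MulAut P) a) = r k * p a := by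
    intro k a
    have h1 : η (p ((k : MulAut P) a) * φ (p ((k : MulAut P) a))) = η ((κ k : F) * (p a * φ (p a))) := by
      rw [← hC.equiv, ← hsq, ← hsq, map_mul]
    have h3 := hC.inj h1
    rw [← hr] at h3
    by_cases ha : p a = 0
    · rw [ha, zero_mul, mul_zero] at h3
      rw [ha, mul_zero]
      rcases mul_eq_zero.1 h3 with e | e
      · exact e
      · exact (map_eq_zero φ).1 e
    · by_cases hb : p ((k : MulAut P) a) = 0
      · rw [hb, zero_mul] at h3
        rcases mul_eq_zero.1 h3.symm with e | e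
        · exact absurd e (mul_ne_zero (r k).ne_zero ((map_ne_zero φ).2 (r k).ne_zero))
        · exact absurd e (mul_ne_zero ha ((map_ne_zero φ).2 ha))
      · have := hminj (Units.mk0 _ hb) (r k * Units.mk0 _ ha) (by
          simp only [Units.val_mk0, Units.val_mul, map_mul]; linear_combination h3)
        exact congrArg Units.val this
  -- an elementary abelian operation on the same set
  let op : P → P → P := fun a a' => a * a' * η (φ (p a) * p a')
  have hpop : ∀ a a', p (op a a') = p a + p a' := fun a a' => by simp [op, hpmul, hpη]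
  have hassoc : ∀ a b c, op (op a b) c = op a (op b c) := by
    intro a b c
    show op a b * c * η (φ (p (op a b)) * p c) = a * op b c * η (φ (p a) * p (op b c))
    rw [hpop, hpop]
    show a * b * η (φ (p a) * p b) * c * η _ = a * (b * c * η (φ (p b) * p c)) * η _
    simp only [mul_assoc]
    rw [← mul_assoc (η (φ (p a) * p b)) c, hηc _ c]
    simp only [mul_assoc, ← hC.map_add]
    congr 4
    simp only [map_add]
    ring
  have hsq1 : ∀ a, op a a = 1 := fun a => by
    show a * a * η _ = 1
    rw [hsq, ← hC.map_add, ← hη0]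
    congr 1
    show p a * φ (p a) + φ (p a) * p a = 0
    linear_combination (p a * φ (p a)) * h2
  have hone : ∀ a, op a 1 = a := fun a => by
    show a * 1 * η _ = a
    rw [hp1, mul_zero, hη0, mul_one, mul_one]
  have hone' : ∀ a, op 1 a = a := fun a => by
    show 1 * a * η _ = a
    rw [hp1, map_zero, zero_mul, hη0, mul_one, one_mul]
  have hcomm : ∀ a b, op a b = op b a := fun a b => by
    have h1 : op (op a b) (op a b) = 1 := hsq1 _
    calc op a b = op (op a b) (op (op b a) (op b a)) := by rw [hsq1, hone]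
      _ = op (op (op a b) (op b a)) (op b a) := by rw [← hassoc]
      _ = op (op (op a (op b b)) a) (op b a) := by simp only [hassoc]
      _ = op b a := by rw [hsq1, hone, hsq1, hone']
  letI : Add P := ⟨op⟩
  letI : Zero P := ⟨1⟩
  letI : Neg P := ⟨fun a => a⟩
  letI A : AddCommGroup P :=
    { add := op
      zero := 1
      neg := fun a => a
      add_assoc := hassoc
      zero_add := hone'
      add_zero := hone
      neg_add_cancel := hsq1
      add_comm := hcomm
      nsmul := nsmulRec
      zsmul := zsmulRec }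
  letI : Module (ZMod 2) P := AddCommGroup.zmodModule (fun a => by rw [two_nsmul]; exact hsq1 a)
  letI : Module (ZMod 2) F := AddCommGroup.zmodModule (fun a => by rw [two_nsmul]; exact CharTwo.add_self_eq_zero a)
  let pl : P →ₗ[ZMod 2] F := (AddMonoidHom.mk' p hpop).toZModLinearMap 2
  obtain ⟨s₀, hs₀⟩ := pl.exists_rightInverse_of_surjective (LinearMap.range_eq_top.2 fun z => by
    obtain ⟨a, ha⟩ := hπs (Multiplicative.ofAdd z)
    exact ⟨a, by show p a = z; simp [p, ha]⟩)
  have hs₀p : ∀ z, p (s₀ z) = z := fun z => LinearMap.congr_fun hs₀ z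
  -- the torus respects the operation
  have hkη : ∀ (k : K) z, (k : MulAut P) (η z) = η ((r k : F) * φ (r k) * z) := fun k z => by
    rw [hC.equiv, hr]
  have hkop : ∀ (k : K) a a', (k : MulAut P) (op a a') = op ((k : MulAut P) a) ((k : MulAut P) a') := by
    intro k a a'
    show (k : MulAut P) (a * a' * η _) = _ * _ * η _
    rw [map_mul, map_mul, hkη, hpk, hpk]
    congr 2
    simp only [map_mul]
    ring
  let kA : K → P →+ P := fun k => AddMonoidHom.mk' (fun a => (k : MulAut P) a) (hkop k)
  let sk : K → F →+ P := fun k =>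
    (kA k).comp (s₀.toAddMonoidHom.comp (AddMonoidHom.mulLeft ((r k : F)⁻¹)))
  let s : F →+ P := ∑ k, sk k
  have hps : ∀ z, p (s z) = z := by
    intro z
    have hps' : ∀ k, p (sk k z) = z := fun k => by
      show p ((k : MulAut P) (s₀ ((r k : F)⁻¹ * z))) = z
      rw [hpk, hs₀p, mul_inv_cancel_left₀ (r k).ne_zero]
    have h1 : p (s z) = ∑ k, p (sk k z) := by
      show pl (s z) = _
      rw [AddMonoidHom.finset_sum_apply, map_sum]
      rfl
    rw [h1, Finset.sum_congr rfl (fun k _ => hps' k), Finset.sum_const, Finset.card_univ, nsmul_eq_mul]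
    have hKodd : Odd (Fintype.card K) := by
      obtain ⟨n, -, hn⟩ := FiniteField.card F 2
      rw [Fintype.card_congr (Equiv.ofBijective r hrb), Fintype.card_units, hn]
      exact Nat.Even.sub_odd Nat.one_le_two_pow (Nat.even_pow.2 ⟨even_two, n.ne_zero⟩) odd_one
    obtain ⟨j, hj⟩ := hKodd
    rw [hj]
    push_cast
    linear_combination (j * z : F) * h2
  have hsk : ∀ (k : K) z, (k : MulAut P) (s z) = s (r k * z) := by
    intro k z
    show kA k (s z) = _
    rw [AddMonoidHom.finset_sum_apply, map_sum, AddMonoidHom.finset_sum_apply]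
    refine Fintype.sum_equiv (Equiv.mulLeft k) _ _ fun l => ?_
    show (k : MulAut P) ((l : MulAut P) (s₀ _)) = ((k * l : K) : MulAut P) (s₀ _)
    rw [Subgroup.coe_mul, MulAut.mul_apply]
    show (k : MulAut P) ((l : MulAut P) (s₀ ((r l : F)⁻¹ * z))) =
      (k : MulAut P) ((l : MulAut P) (s₀ ((r (k * l) : F)⁻¹ * ((r k : F) * z))))
    have : ((r (k * l) : F))⁻¹ * ((r k : F) * z) = (r l : F)⁻¹ * z := by
      rw [map_mul, Units.val_mul]
      have := (r k).ne_zero
      have := (r l).ne_zero
      field_simp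
    rw [this]
  have hsmul : ∀ a c, s a * s c = s (a + c) * η (φ a * c) := by
    intro a c
    have h1 : s (a + c) = s a * s c * η (φ a * c) := by
      rw [map_add]
      show s a * s c * η (φ (p (s a)) * p (s c)) = _
      rw [hps, hps]
    rw [h1, mul_assoc (s a * s c), ← hC.map_add, CharTwo.add_self_eq_zero, hη0, mul_one]
  refine ⟨φ, fun a b => s a * η b, r, hminj, hrb, ⟨?_, ?_⟩, fun a b c d => ?_, fun k a b => ?_⟩
  · rintro ⟨a, b⟩ ⟨c, d⟩ e
    have e1 := congrArg p e
    simp only [hpmul, hps, hpη, add_zero] at e1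
    subst e1
    exact Prod.ext rfl (hC.inj (mul_left_cancel e))
  · intro x
    obtain ⟨b, hb⟩ := (hker ((s (p x))⁻¹ * x)).1 (Multiplicative.toAdd.injective (by
      show p ((s (p x))⁻¹ * x) = 0
      have := hpmul (s (p x)) ((s (p x))⁻¹ * x)
      rw [mul_inv_cancel_left, hps] at this
      linear_combination -this))
    exact ⟨(p x, b), by show s (p x) * η b = x; rw [← hb, mul_inv_cancel_left]⟩
  · show s a * η b * (s c * η d) = s (a + c) * η (b + d + φ a * c)
    rw [mul_assoc, ← mul_assoc (η b), hηc b (s c), mul_assoc (s c), ← mul_assoc, hsmul,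
      mul_assoc, ← hC.map_add, ← hC.map_add]
    congr 2
    ring
  · show (k : MulAut P) (s a * η b) = s ((r k : F) * a) * η ((r k : F) * φ (r k) * b)
    rw [map_mul, hsk, hkη]

end CfsgLib.SuzukiIdent
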