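import Cfsg.Agent.Lib.SuzukiIdent.Setup

/-!
The field identity for a Suzuki setup in normal form, and the fact that twist and parameter determine
the inversion.
-/

set_option autoImplicit false

namespace CfsgLib.SuzukiIdent.Setup

variable {G Ω F : Type*} [Group G] [MulAction G Ω] [Field F] [CharP F 2] [Finite F]
variable {S : Setup G Ω F} {b : F} (hN : S.IsNorm b)
include hN

omit hN in
theorem eq_P {a b c d : F} (h : S.P a b = S.P c d) : a = c ∧ b = d := S.inj a b c d h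

theorem exists_Q {a : F} (ha : a ≠ 0) (ha1 : a ≠ 1) :
    ∃ Q, Q * S.φ Q = 1 + a + S.φ a := by
  by_cases h : 1 + a + S.φ a = 0
  · exact ⟨0, by simp [h]⟩
  · obtain ⟨k, hk⟩ := S.exists_root h
    exact ⟨k, hk⟩

theorem L_inj {x : F} (hx : S.L b x = 0) : x = 0 := by
  by_contra h0
  by_cases h1 : x = 1
  · subst h1; rw [L_one] at hx; exact one_ne_zero hx
  obtain ⟨Q, hQ⟩ := exists_Q hN h0 h1
  obtain ⟨hQ0, hden, h⟩ := τ_gen hN h0 h1 hQ
  rw [hx, add_zero, τ_v hN] at h
  exact div_ne_zero hden (mul_ne_zero h0 hQ0) (eq_P h).1.symm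

theorem exists_L (y : F) : ∃ x, S.L b x = y := by
  refine Finite.injective_iff_surjective.1 (fun u v e => ?_) y
  refine CharTwo.add_eq_zero.1 (L_inj hN ?_)
  rw [L_add, e, CharTwo.add_self_eq_zero]

/-- The field identity. -/
theorem exists_param : ∃ c, Param S.φ b c := by
  have h2 : (2 : F) = 0 := CharTwo.two_eq_zero
  choose c hc using fun u => exists_L hN ((1 + b) * u + b * S.φ u)
  have hLi : ∀ x y, S.L b x = S.L b y → x = y := fun x y e => by
    refine CharTwo.add_eq_zero.1 (L_inj hN ?_)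
    rw [L_add, e, CharTwo.add_self_eq_zero]
  have hc0 : c 0 = 0 := hLi _ _ (by rw [hc, L_zero, map_zero, mul_zero, mul_zero, add_zero])
  have hc1 : c 1 = 1 := hLi _ _ (by
    rw [hc, L_one, map_one, mul_one, mul_one]; linear_combination b * h2)
  have hca : ∀ u, c (1 + u) = 1 + c u := fun u => hLi _ _ (by
    rw [hc, L_add, L_one, hc, map_add, map_one]; linear_combination b * h2)
  refine ⟨c, fun u => ?_, fun x hx => L_inj hN hx, fun u => ?_⟩
  · have h := hc u
    simp only [L] at h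
    linear_combination h + ((1 + b) * u + b * S.φ u) * h2
  by_cases hu0 : u = 0
  · subst hu0; simp [hc0]
  by_cases hu1 : u = 1
  · subst hu1; simp [hc1, CharTwo.add_self_eq_zero]
  have hu1' : 1 + u ≠ 0 := fun e => hu1 (CharTwo.add_eq_zero.1 e).symm
  have hu11 : 1 + u ≠ 1 := fun e => hu0 (by linear_combination e)
  -- the two sides of the relation for `u`
  have hE : ∀ u : F, ∀ hu : u ≠ 0, ∀ hu' : 1 + u ≠ 0,
      S.τ • S.P (u⁻¹ * 1) (u⁻¹ * S.φ u⁻¹ * (b + S.L b (1 + c u))) =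
        S.U 0 1 • S.τ • S.P ((1 + u)⁻¹ * 1) ((1 + u)⁻¹ * S.φ (1 + u)⁻¹ * (b + S.L b (c u))) := by
    intro u hu hu'
    let s : Fˣ := Units.mk0 ((1 + u) / u) (div_ne_zero hu' hu)
    have h := τ_E hN (S.H s⁻¹ • S.P 1 (b + 1))
    rw [τ_H_smul, inv_inv, τ_w hN, S.H_P, S.H_P, S.U_P, S.U_P] at h
    have hφu : S.φ u ≠ 0 := (map_ne_zero S.φ).2 hu
    have hφu' : 1 + S.φ u ≠ 0 := by simpa using (map_ne_zero S.φ).2 hu'
    have e1 : u⁻¹ * 1 = 1 + (s : F) * 1 := by
      simp only [s, Units.val_mk0]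
      field_simp
      linear_combination -(u * h2)
    have e2 : u⁻¹ * S.φ u⁻¹ * (b + S.L b (1 + c u)) =
        b + (s : F) * S.φ s * (b + 1) + S.φ 1 * (s * 1) := by
      simp only [s, Units.val_mk0, L_add, L_one, hc, map_div₀, map_inv₀, map_add, map_one]
      field_simp
      linear_combination -((b + 1) * u * S.φ u + S.φ u) * h2
    have e3 : (1 + u)⁻¹ * 1 = 1 + ((s⁻¹ : Fˣ) : F) * 1 := by
      simp only [s, Units.val_inv_eq_inv_val, Units.val_mk0]
      field_simp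
      linear_combination -(u * h2)
    have e4 : (1 + u)⁻¹ * S.φ (1 + u)⁻¹ * (b + S.L b (c u)) =
        b + ((s⁻¹ : Fˣ) : F) * S.φ ((s⁻¹ : Fˣ) : F) * (b + 1) + S.φ 1 * ((s⁻¹ : Fˣ) * 1) := by
      simp only [s, Units.val_inv_eq_inv_val, Units.val_mk0, hc, map_div₀, map_inv₀, map_add, map_one]
      field_simp
      linear_combination -((b + 1) * u * S.φ u) * h2
    rw [← e1, ← e2, ← e3, ← e4] at h
    exact h
  -- `c u` is neither `0` nor `1`
  have hne0 : ∀ u : F, u ≠ 0 → 1 + u ≠ 0 → c u ≠ 0 := by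
    intro u hu hu' e
    have h := hE u hu hu'
    rw [e, add_zero, L_one, L_zero, add_zero] at h
    have h1 := S.τ_scale (τ_w hN) (Units.mk0 u⁻¹ (inv_ne_zero hu))
    have h3 := S.τ_scale (τ_v hN) (Units.mk0 (1 + u)⁻¹ (inv_ne_zero hu'))
    simp only [Units.val_mk0, Units.val_inv_eq_inv_val, inv_inv] at h1 h3
    rw [h1, h3, S.U_P] at h
    have := (eq_P h).1
    rw [mul_one, mul_zero, add_zero] at this
    exact hu this
  have hcu0 := hne0 u hu0 hu1'
  have hcu1 : 1 + c u ≠ 0 := by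
    have := hne0 (1 + u) hu1' (by
      intro e; exact hu0 (by linear_combination e - h2))
    rwa [hca] at this
  have hcu11 : c u ≠ 1 := fun e => hcu1 (by rw [e]; exact CharTwo.add_self_eq_zero 1)
  have hcu10 : 1 + c u ≠ 1 := fun e => hcu0 (by linear_combination e)
  obtain ⟨Q, hQ⟩ := exists_Q hN hcu0 hcu11
  have hQ' : Q * S.φ Q = 1 + (1 + c u) + S.φ (1 + c u) := by
    rw [hQ, map_add, map_one]; linear_combination -h2
  obtain ⟨hQ0, hd0, g0⟩ := τ_gen hN hcu0 hcu11 hQ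
  obtain ⟨-, hd1, g1⟩ := τ_gen hN hcu1 hcu10 hQ'
  have h := hE u hu0 hu1'
  have s1 := S.τ_scale g1 (Units.mk0 u⁻¹ (inv_ne_zero hu0))
  have s0 := S.τ_scale g0 (Units.mk0 (1 + u)⁻¹ (inv_ne_zero hu1'))
  simp only [Units.val_mk0, Units.val_inv_eq_inv_val, inv_inv] at s0 s1
  rw [s1, s0, S.U_P] at h
  have hα := (eq_P h).1
  rw [zero_add] at hα
  field_simp at hα
  have hkey : Q * (1 + u + c u) = 1 + u + c u * c u := by
    linear_combination hα + (Q + Q * u + Q * c u + c u) * h2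
  rw [← hkey, map_mul, ← hQ]
  ring

end CfsgLib.SuzukiIdent.Setup
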