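import Cfsg.Agent.Lib.SuzukiIdent.Normal
import Cfsg.Agent.Lib.Suzuki.LieBridge

/-!
A group with a Suzuki setup is a Suzuki group.
-/

set_option autoImplicit false

open Cfsg

namespace CfsgLib.SuzukiIdent

namespace Setup

variable {G G' Ω Ω' F : Type*} [Group G] [MulAction G Ω] [Group G'] [MulAction G' Ω'] [Field F]
variable (S : Setup G Ω F)

/-- The points, labelled. -/
def pt : Option (F × F) → Ω
  | none => S.inf
  | some p => S.P p.1 p.2

theorem pt_bijective : Function.Bijective S.pt := by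
  refine ⟨?_, fun x => ?_⟩
  · rintro (_ | ⟨a, b⟩) (_ | ⟨c, d⟩) h
    · rfl
    · exact absurd h.symm (S.ne_inf c d)
    · exact absurd h (S.ne_inf a b)
    · obtain ⟨rfl, rfl⟩ := S.inj a b c d h; rfl
  · by_cases hx : x = S.inf
    · exact ⟨none, hx.symm⟩
    · obtain ⟨a, b, h⟩ := S.surj x hx
      exact ⟨some (a, b), h⟩

/-- The labels as an equivalence. -/
noncomputable def ptEquiv : Option (F × F) ≃ Ω := Equiv.ofBijective S.pt S.pt_bijective

/-- The permutation representation on the labels. -/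
noncomputable def perm : G →* Equiv.Perm (Option (F × F)) :=
  (Equiv.permCongrHom S.ptEquiv.symm).toMonoidHom.comp (MulAction.toPermHom G Ω)

theorem pt_perm (g : G) (o : Option (F × F)) : S.pt (S.perm g o) = g • S.pt o := by
  show S.ptEquiv (S.ptEquiv.symm (g • S.ptEquiv o)) = _
  rw [S.ptEquiv.apply_symm_apply]
  rfl

theorem perm_eq {g : G} {o o' : Option (F × F)} (h : g • S.pt o = S.pt o') : S.perm g o = o' :=
  S.pt_bijective.1 ((S.pt_perm g o).trans h)

theorem perm_injective : Function.Injective S.perm := by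
  refine (injective_iff_map_eq_one _).2 fun g hg => S.faithful g fun x => ?_
  obtain ⟨o, rfl⟩ := S.pt_bijective.2 x
  rw [← pt_perm, hg, Equiv.Perm.one_apply]

theorem gen [CharP F 2] [Finite G] [Finite F] (K : Subgroup G) (hU : ∀ a b, S.U a b ∈ K)
    (hH : ∀ k, S.H k ∈ K) (hτ : S.τ ∈ K) (g : G) : g ∈ K := by
  by_cases hg : g • S.inf = S.inf
  · obtain ⟨a, b, k, rfl⟩ := S.stab g hg
    exact K.mul_mem (hU a b) (hH k)
  · obtain ⟨a, b, c, d, k, rfl⟩ := S.exists_eq_of_ne g hg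
    exact K.mul_mem (K.mul_mem (K.mul_mem (hU a b) hτ) (hH k)) (hU c d)

end Setup

open Setup in
/-- In normal form the inversion depends on the twist and the parameter only. -/
theorem same_τ {G G' Ω Ω' F : Type*} [Group G] [MulAction G Ω] [Group G'] [MulAction G' Ω'] [Field F]
    [CharP F 2] [Finite F] (S : Setup G Ω F) (S' : Setup G' Ω' F) (hφ : S'.φ = S.φ) {b : F}
    (hN : S.IsNorm b) (hN' : S'.IsNorm b) (x y : F) (h : x ≠ 0 ∨ y ≠ 0) :
    ∃ c d, S.τ • S.P x y = S.P c d ∧ S'.τ • S'.P x y = S'.P c d := by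
  by_cases hx : x = 0
  · subst hx
    obtain ⟨k, hk⟩ := S.exists_root (h.resolve_left (fun e => e rfl))
    subst hk
    refine ⟨_, _, τ_center hN k, ?_⟩
    rw [← hφ]
    exact τ_center hN' k
  -- scale the first coordinate to `1`
  suffices key : ∀ y, ∃ c d, S.τ • S.P 1 y = S.P c d ∧ S'.τ • S'.P 1 y = S'.P c d by
    obtain ⟨c, d, h1, h2⟩ := key (y / (x * S.φ x))
    have h1' := S.τ_scale h1 (Units.mk0 x hx)
    have h2' := S'.τ_scale h2 (Units.mk0 x hx)
    have hφx : S.φ x ≠ 0 := (map_ne_zero S.φ).2 hx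
    rw [Units.val_mk0, mul_one, mul_div_cancel₀ _ (mul_ne_zero hx hφx)] at h1'
    rw [Units.val_mk0, mul_one, hφ, mul_div_cancel₀ _ (mul_ne_zero hx hφx)] at h2'
    exact ⟨_, _, h1', h2'⟩
  intro y
  obtain ⟨a, ha⟩ := exists_L hN (b + y)
  have hy : y = b + S.L b a := by
    rw [ha]; linear_combination -(b * (CharTwo.two_eq_zero : (2 : F) = 0))
  by_cases ha0 : a = 0
  · refine ⟨0, 1, ?_, ?_⟩ <;> rw [hy, ha0, L_zero, add_zero]
    · exact τ_v hN
    · exact τ_v hN'
  by_cases ha1 : a = 1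
  · refine ⟨1, b + 1, ?_, ?_⟩ <;> rw [hy, ha1, L_one]
    · exact τ_w hN
    · exact τ_w hN'
  obtain ⟨Q, hQ⟩ := exists_Q hN ha0 ha1
  have hL : ∀ z, S'.L b z = S.L b z := fun z => by simp only [Setup.L, hφ]
  obtain ⟨-, -, g⟩ := τ_gen hN ha0 ha1 hQ
  obtain ⟨-, -, g'⟩ := τ_gen hN' ha0 ha1 (Q := Q) (by rw [hφ]; exact hQ)
  rw [hL, hL, hφ] at g'
  rw [hy]
  exact ⟨_, _, g, g'⟩

open Setup in
/-- Two groups in normal form with the same twist and parameter are isomorphic. -/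
theorem nonempty_equiv {G G' Ω Ω' F : Type*} [Group G] [MulAction G Ω] [Group G'] [MulAction G' Ω']
    [Field F] [CharP F 2] [Finite F] [Finite G] [Finite G'] (S : Setup G Ω F) (S' : Setup G' Ω' F)
    (hφ : S'.φ = S.φ) {b : F} (hN : S.IsNorm b) (hN' : S'.IsNorm b) : Nonempty (G ≃* G') := by
  have hU : ∀ a c, S.perm (S.U a c) = S'.perm (S'.U a c) := fun a c => by
    refine Equiv.ext fun o => ?_
    rcases o with _ | ⟨x, y⟩
    · rw [S.perm_eq (o' := none) (S.U_inf a c), S'.perm_eq (o' := none) (S'.U_inf a c)]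
    · rw [S.perm_eq (o' := some (_, _)) (S.U_P a c x y),
        S'.perm_eq (o' := some (_, _)) (S'.U_P a c x y), hφ]
  have hH : ∀ k, S.perm (S.H k) = S'.perm (S'.H k) := fun k => by
    refine Equiv.ext fun o => ?_
    rcases o with _ | ⟨x, y⟩
    · rw [S.perm_eq (o' := none) (S.H_inf k), S'.perm_eq (o' := none) (S'.H_inf k)]
    · rw [S.perm_eq (o' := some (_, _)) (S.H_P k x y),
        S'.perm_eq (o' := some (_, _)) (S'.H_P k x y), hφ]
  have hτ : S.perm S.τ = S'.perm S'.τ := by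
    refine Equiv.ext fun o => ?_
    rcases o with _ | ⟨x, y⟩
    · rw [S.perm_eq (o' := some (0, 0)) (S.τ_inf.trans S.P_zero.symm),
        S'.perm_eq (o' := some (0, 0)) (S'.τ_inf.trans S'.P_zero.symm)]
    · by_cases h : x = 0 ∧ y = 0
      · obtain ⟨rfl, rfl⟩ := h
        have e : S.τ • S.P 0 0 = S.inf := by rw [S.P_zero, ← S.τ_inf, τ_τ]
        have e' : S'.τ • S'.P 0 0 = S'.inf := by rw [S'.P_zero, ← S'.τ_inf, τ_τ]
        rw [S.perm_eq (o' := none) e, S'.perm_eq (o' := none) e']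
      · obtain ⟨c, d, h1, h2⟩ := same_τ S S' hφ hN hN' x y (not_and_or.1 h)
        rw [S.perm_eq (o' := some (c, d)) h1, S'.perm_eq (o' := some (c, d)) h2]
  have hrange : S.perm.range = S'.perm.range := by
    refine le_antisymm ?_ ?_
    · rintro _ ⟨g, rfl⟩
      exact S.gen (S'.perm.range.comap S.perm) (fun a c => ⟨_, (hU a c).symm⟩)
        (fun k => ⟨_, (hH k).symm⟩) ⟨_, hτ.symm⟩ g
    · rintro _ ⟨g, rfl⟩
      exact S'.gen (S.perm.range.comap S'.perm) (fun a c => ⟨_, hU a c⟩)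
        (fun k => ⟨_, hH k⟩) ⟨_, hτ⟩ g
  exact ⟨((MonoidHom.ofInjective S.perm_injective).trans (MulEquiv.subgroupCongr hrange)).trans
    (MonoidHom.ofInjective S'.perm_injective).symm⟩

/-- The automorphism squaring to the Frobenius map is `x ↦ x^(2^(m+1))`. -/
theorem twist_eq {F : Type*} [Field F] [Fintype F] [CharP F 2] {m : ℕ}
    (hm : 1 ≤ m) (hF : Fintype.card F = 2 ^ (2 * m + 1)) (φ : F ≃+* F) (h : ∀ x, φ (φ x) = x * x) (x : F) :
    φ x = x ^ 2 ^ (m + 1) := by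
  haveI : Fact (Nat.Prime 2) := ⟨Nat.prime_two⟩
  letI : Algebra (ZMod 2) F := ZMod.algebra F 2
  have hfr : Module.finrank (ZMod 2) F = 2 * m + 1 := by
    have h1 := Module.card_eq_pow_finrank (K := ZMod 2) (V := F)
    rw [ZMod.card, hF] at h1
    exact (Nat.pow_right_injective le_rfl h1).symm
  let α : F ≃ₐ[ZMod 2] F := AlgEquiv.ofRingEquiv (f := φ) (fun c => by
    rw [show algebraMap (ZMod 2) F c = (c.val : F) by
      rw [← map_natCast (algebraMap (ZMod 2) F), ZMod.natCast_zmod_val], map_natCast])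
  obtain ⟨i, hi⟩ := (FiniteField.bijective_frobeniusAlgEquivOfAlgebraic_pow (ZMod 2) F).2 α
  have hpow : ∀ j : ℕ, ∀ z : F,
      (FiniteField.frobeniusAlgEquivOfAlgebraic (ZMod 2) F ^ j) z = z ^ 2 ^ j := fun j z => by
    rw [AlgEquiv.coe_pow, FiniteField.coe_frobeniusAlgEquivOfAlgebraic_iterate, ZMod.card]
  have hφ : ∀ z, φ z = z ^ 2 ^ (i : ℕ) := fun z => by
    rw [← hpow]
    exact (AlgEquiv.congr_fun hi z).symm
  have hpow2 : FiniteField.frobeniusAlgEquivOfAlgebraic (ZMod 2) F ^ (2 * (i : ℕ)) =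
      FiniteField.frobeniusAlgEquivOfAlgebraic (ZMod 2) F ^ 1 := by
    ext z
    rw [hpow, hpow, pow_one, sq z, ← h z, hφ, hφ, ← pow_mul, ← pow_add, two_mul]
  have hmod := pow_eq_pow_iff_modEq.1 hpow2
  rw [FiniteField.orderOf_frobeniusAlgEquivOfAlgebraic] at hmod
  rw [hφ]
  congr 2
  have hilt : (i : ℕ) < 2 * m + 1 := lt_of_lt_of_eq i.2 hfr
  generalize (i : ℕ) = i at hmod hilt hφ ⊢
  rw [hfr] at hmod
  by_contra hne
  unfold Nat.ModEq at hmod
  rw [Nat.mod_eq_of_lt (show 1 < 2 * m + 1 by omega)] at hmod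
  obtain ⟨t, ht⟩ : ∃ t, 2 * (i : ℕ) = (2 * m + 1) * t + 1 :=
    ⟨2 * i / (2 * m + 1), by have := Nat.div_add_mod (2 * i) (2 * m + 1); omega⟩
  rcases t with _ | _ | t
  · omega
  · omega
  · nlinarith

end CfsgLib.SuzukiIdent
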