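import Cfsg.Agent.Lib.SuzukiIdent.Equation
import Mathlib.GroupTheory.GroupAction.Quotient
import Mathlib.GroupTheory.GroupAction.Basic
import Mathlib.Algebra.Group.Subgroup.Finite
import Mathlib.Algebra.Group.Action.Pointwise.Set.Basic
import Mathlib.RingTheory.IntegralDomain

/-!
Every Suzuki setup can be brought into normal form with parameter `0`.
-/

set_option autoImplicit false

open scoped Pointwise

namespace CfsgLib.SuzukiIdent.Setup

variable {G Ω F : Type*} [Group G] [MulAction G Ω] [Field F] [CharP F 2] [Finite F] [Finite G]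
variable (S : Setup G Ω F)
include S

omit [Finite F] [Finite G] in
theorem U_inv (a b : F) : (S.U a b)⁻¹ = S.U a (b + S.φ a * a) := by
  refine inv_eq_of_mul_eq_one_right ?_
  rw [S.U_mul, ← S.U_zero]
  congr 1
  · exact CharTwo.add_self_eq_zero a
  · linear_combination (b + S.φ a * a) * (CharTwo.two_eq_zero : (2 : F) = 0)

omit [Finite F] [Finite G] in
theorem exists_eq_of_ne (g : G) (hg : g • S.inf ≠ S.inf) :
    ∃ a b c d k, g = S.U a b * S.τ * S.H k * S.U c d := by
  obtain ⟨a, b, hab⟩ := S.surj _ hg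
  obtain ⟨c, d, k, h⟩ := S.stab (S.τ * (S.U a b)⁻¹ * g) (by
    rw [mul_smul, mul_smul, ← hab, inv_smul_smul, ← S.τ_inf, τ_τ])
  refine ⟨a, b, ((k⁻¹ : Fˣ) : F) * c, ((k⁻¹ : Fˣ) : F) * S.φ ((k⁻¹ : Fˣ) : F) * d, k, ?_⟩
  rw [← S.H_U' k⁻¹ c d, inv_inv]
  calc g = S.U a b * S.τ * (S.τ * (S.U a b)⁻¹ * g) := by
        simp only [mul_assoc]; rw [← mul_assoc S.τ S.τ, S.τ_sq, one_mul, mul_inv_cancel_left]
    _ = _ := by
        rw [h]; simp only [mul_assoc, ← map_mul]
        simp only [← mul_assoc, mul_assoc (S.U a b * S.τ) (S.H k) (S.H k⁻¹), ← map_mul]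
        simp

omit [Finite F] in
theorem card_group [Fintype F] :
    Nat.card G = (Fintype.card F ^ 2 + 1) * (Fintype.card F ^ 2 * (Fintype.card F - 1)) := by
  classical
  have horb : MulAction.orbit G S.inf = Set.univ := by
    refine Set.eq_univ_of_forall fun x => ?_
    by_cases hx : x = S.inf
    · exact hx ▸ MulAction.mem_orbit_self _
    · obtain ⟨a, b, rfl⟩ := S.surj x hx
      exact ⟨S.U a b * S.τ, by show (S.U a b * S.τ) • S.inf = _; rw [mul_smul, S.τ_inf]⟩
  have hΩ : Nat.card Ω = Fintype.card F ^ 2 + 1 := by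
    let f : Option (F × F) → Ω := fun o => o.elim S.inf fun p => S.P p.1 p.2
    have hf : Function.Bijective f := by
      refine ⟨?_, fun x => ?_⟩
      · rintro (_ | ⟨a, b⟩) (_ | ⟨c, d⟩) h
        · rfl
        · exact absurd h.symm (S.ne_inf c d)
        · exact absurd h (S.ne_inf a b)
        · obtain ⟨rfl, rfl⟩ := S.inj a b c d h; rfl
      · by_cases hx : x = S.inf
        · exact ⟨none, hx.symm⟩
        · obtain ⟨a, b, h⟩ := S.surj x hx
          exact ⟨some (a, b), h⟩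
    rw [← Nat.card_eq_of_bijective f hf, Nat.card_eq_fintype_card, Fintype.card_option,
      Fintype.card_prod, pow_two]
  let f : F × F × Fˣ → MulAction.stabilizer G S.inf := fun p =>
    ⟨S.U p.1 p.2.1 * S.H p.2.2, by
      rw [MulAction.mem_stabilizer_iff, mul_smul, S.H_inf, S.U_inf]⟩
  have hf : Function.Bijective f := by
    refine ⟨?_, fun g => ?_⟩
    · rintro ⟨a, b, k⟩ ⟨c, d, l⟩ h
      have h1 : S.U a b * S.H k = S.U c d * S.H l := congrArg Subtype.val h
      have h2 : (S.U a b * S.H k) • S.zero = (S.U c d * S.H l) • S.zero := by rw [h1]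
      rw [mul_smul, mul_smul, S.H_zero, S.H_zero] at h2
      obtain ⟨rfl, rfl⟩ := S.inj a b c d h2
      have h3 : S.H k • S.P 1 0 = S.H l • S.P 1 0 := by rw [mul_left_cancel h1]
      rw [S.H_P, S.H_P] at h3
      have := (eq_P h3).1
      rw [mul_one, mul_one] at this
      rw [Units.ext this]
    · obtain ⟨a, b, k, h⟩ := S.stab g g.2
      exact ⟨(a, b, k), Subtype.ext h.symm⟩
  have h := MulAction.index_stabilizer G S.inf
  rw [horb, Set.ncard_univ, hΩ] at h
  rw [← (MulAction.stabilizer G S.inf).card_mul_index, h, ← Nat.card_eq_of_bijective f hf,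
    Nat.card_prod, Nat.card_prod, Nat.card_units, Nat.card_eq_fintype_card]
  ring

/-- The subline through the central involutions is not invariant. -/
theorem not_center_preserved {β : F} (h : S.τ • S.P 0 1 = S.P 0 β) : False := by
  classical
  letI := Fintype.ofFinite F
  let Δ : Set Ω := insert S.inf (Set.range fun y => S.P 0 y)
  have hU : ∀ y, S.U 0 y • Δ ⊆ Δ := by
    rintro y _ ⟨x, (rfl | ⟨z, rfl⟩), rfl⟩
    · exact Or.inl (S.U_inf 0 y)
    · exact Or.inr ⟨y + z, by simp [S.U_P]⟩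
  have hτ : S.τ • Δ ⊆ Δ := by
    rintro _ ⟨x, (rfl | ⟨z, rfl⟩), rfl⟩
    · exact Or.inr ⟨0, by simp [P_zero, S.τ_inf]⟩
    · by_cases hz : z = 0
      · exact Or.inl (by simp [hz, P_zero, ← S.τ_inf, τ_τ])
      · obtain ⟨k, hk⟩ := S.exists_root hz
        refine Or.inr ⟨((k⁻¹ : Fˣ) : F) * S.φ ((k⁻¹ : Fˣ) : F) * β, ?_⟩
        have := S.τ_scale h k
        simp only [mul_zero, mul_one, hk] at this
        exact this.symm
  set M := MulAction.stabilizer G Δ with hM
  have hcardΔ : Δ.ncard = Fintype.card F + 1 := by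
    rw [Set.ncard_insert_of_notMem, Set.ncard_range_of_injective, Nat.card_eq_fintype_card]
    · exact fun y z e => (eq_P e).2
    · rintro ⟨y, hy⟩; exact S.ne_inf 0 y hy
  have hfin : Δ.Finite := Set.finite_of_ncard_ne_zero (by omega)
  have hmemU : ∀ y, S.U 0 y ∈ M := fun y =>
    (MulAction.mem_stabilizer_iff).2 (Set.eq_of_subset_of_ncard_le (hU y)
      (le_of_eq (Set.ncard_image_of_injective _ (MulAction.injective _)).symm) hfin)
  have hmemτ : S.τ ∈ M :=
    (MulAction.mem_stabilizer_iff).2 (Set.eq_of_subset_of_ncard_le hτ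
      (le_of_eq (Set.ncard_image_of_injective _ (MulAction.injective _)).symm) hfin)
  have horb : MulAction.orbit M S.inf = Δ := by
    ext x
    constructor
    · rintro ⟨g, rfl⟩
      have hg : (g : G) • Δ = Δ := g.2
      rw [← hg]
      exact ⟨S.inf, Or.inl rfl, rfl⟩
    · rintro (rfl | ⟨y, rfl⟩)
      · exact MulAction.mem_orbit_self _
      · refine ⟨⟨S.U 0 y * S.τ, M.mul_mem (hmemU y) hmemτ⟩, ?_⟩
        show (S.U 0 y * S.τ) • S.inf = _
        rw [mul_smul, S.τ_inf]
        rfl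
  have hd : Fintype.card F + 1 ∣ Nat.card G := by
    refine dvd_trans ?_ (Subgroup.card_subgroup_dvd_card M)
    rw [← hcardΔ, ← horb, ← MulAction.index_stabilizer]
    exact Subgroup.index_dvd_card _
  rw [S.card_group] at hd
  obtain ⟨n, -, hn⟩ := FiniteField.card F 2
  obtain ⟨j, hj⟩ : 2 ∣ Fintype.card F := hn ▸ dvd_pow_self 2 n.ne_zero
  have hpos : 2 ≤ Fintype.card F := Fintype.one_lt_card
  generalize Fintype.card F = q at hd hj hpos
  have h4 : ((q : ℤ) + 1) ∣ 4 := by
    have h1 : ((q : ℤ) + 1) ∣ ((q : ℤ) ^ 2 + 1) * ((q : ℤ) ^ 2 * ((q : ℤ) - 1)) := by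
      have := Int.natCast_dvd_natCast.2 hd
      push_cast [show 1 ≤ q by omega] at this
      exact this
    have h2 : ((q : ℤ) + 1) ∣ ((q : ℤ) ^ 2 + 1) * ((q : ℤ) ^ 2 * ((q : ℤ) - 1)) + 4 :=
      ⟨(q : ℤ) ^ 4 - 2 * q ^ 3 + 3 * q ^ 2 - 4 * q + 4, by ring⟩
    exact (dvd_add_right h1).1 h2
  have h4' : q + 1 ∣ 4 := Int.natCast_dvd_natCast.1 (by simpa using h4)
  have := Nat.le_of_dvd (by norm_num) h4'
  have : q ≤ 3 := by omega
  interval_cases q <;> omega

/-- Normal form. -/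
theorem exists_isNorm : ∃ (S' : Setup G Ω F) (b : F), S'.IsNorm b := by
  have h2 : (2 : F) = 0 := CharTwo.two_eq_zero
  have h0 : S.τ • S.zero = S.inf := by rw [← S.τ_inf, τ_τ]
  have hne : (S.τ * S.U 0 1 * S.τ) • S.inf ≠ S.inf := by
    rw [mul_smul, mul_smul, S.τ_inf, ← h0]
    intro e
    have e' : S.P 0 1 = S.P 0 0 := by
      rw [P_zero]
      have := congrArg (S.τ • ·) e
      simpa [τ_τ, P] using this
    exact one_ne_zero (eq_P e').2
  obtain ⟨a, b, c, d, k, hg⟩ := S.exists_eq_of_ne _ hne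
  have hgg : (S.τ * S.U 0 1 * S.τ) * (S.τ * S.U 0 1 * S.τ) = 1 := by
    have hz : S.U 0 1 * S.U 0 1 = 1 := by
      rw [S.U_mul, ← S.U_zero]
      simp [CharTwo.add_self_eq_zero]
    simp only [mul_assoc]
    rw [← mul_assoc S.τ S.τ, S.τ_sq, one_mul, ← mul_assoc (S.U 0 1) (S.U 0 1), hz, one_mul, S.τ_sq]
  have hτinv : S.τ⁻¹ = S.τ := inv_eq_of_mul_eq_one_right S.τ_sq
  -- the right factor is the inverse of the left one
  have hcd : S.U c d = (S.U a b)⁻¹ := by
    have h1 : S.τ * S.U 0 1 * S.τ = (S.U c d)⁻¹ * (S.H k)⁻¹ * S.τ * (S.U a b)⁻¹ := by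
      rw [← inv_eq_of_mul_eq_one_right hgg, hg]
      simp [mul_assoc, hτinv]
    have h3 := congrArg (· • S.inf) (h1.symm.trans hg)
    simp only [S.U_inv, ← map_inv, mul_smul, S.U_inf, S.τ_inf, S.H_zero, S.H_inf] at h3
    obtain ⟨e1, e2⟩ := S.inj _ _ _ _ h3
    rw [S.U_inv, ← e1, ← e2]
    congr 1
    linear_combination -(S.φ c * c * h2)
  have ha : a ≠ 0 := by
    intro ha
    refine S.not_center_preserved (β := b) ?_
    have h3 := congrArg (· • S.inf) hg
    simp only [mul_smul, S.U_inf, S.H_inf, S.τ_inf, ha] at h3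
    exact h3
  -- change the involution
  let S' : Setup G Ω F :=
    { S with
      τ := S.H k * S.τ
      τ_sq := by
        show S.H k * S.τ * (S.H k * S.τ) = 1
        rw [mul_assoc, ← mul_assoc S.τ, S.τ_H, mul_assoc, S.τ_sq, mul_one, ← map_mul,
          mul_inv_cancel, map_one]
      τ_H := fun l => by
        show S.H k * S.τ * S.H l = S.H l⁻¹ * (S.H k * S.τ)
        rw [mul_assoc, S.τ_H, ← mul_assoc, ← mul_assoc, ← map_mul, ← map_mul, mul_comm k]
      τ_inf := by
        show (S.H k * S.τ) • S.inf = S.zero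
        rw [mul_smul, S.τ_inf, S.H_zero] }
  set A : F := (k : F) * a with hA
  set B : F := (k : F) * S.φ k * b with hB
  have hA0 : A ≠ 0 := mul_ne_zero k.ne_zero ha
  have hform : S'.τ * S'.U 0 1 * S'.τ = S'.U A B * S'.τ * (S'.U A B)⁻¹ := by
    have e : S.H k * S.τ = S.τ * S.H k⁻¹ := by rw [S.τ_H, inv_inv]
    show S.H k * S.τ * S.U 0 1 * (S.H k * S.τ) = S.U A B * (S.H k * S.τ) * (S.U A B)⁻¹
    calc S.H k * S.τ * S.U 0 1 * (S.H k * S.τ) = S.H k * S.τ * S.U 0 1 * (S.τ * S.H k⁻¹) := by rw [e]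
      _ = S.H k * (S.τ * S.U 0 1 * S.τ) * S.H k⁻¹ := by simp only [mul_assoc]
      _ = S.H k * (S.U a b * S.τ * S.H k * (S.U a b)⁻¹) * S.H k⁻¹ := by rw [hg, hcd]
      _ = (S.H k * S.U a b * S.H k⁻¹) * (S.H k * S.τ) * (S.H k * S.U a b * S.H k⁻¹)⁻¹ := by
          rw [map_inv]; group
      _ = _ := by rw [S.H_U']
  -- relations of the new involution
  set v := S'.U A B with hv
  have hτvτ : S'.τ * v * S'.τ = S'.U 0 1 * S'.τ * v := by
    have h : S'.U 0 1 = S'.τ * (v * S'.τ * v⁻¹) * S'.τ := by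
      rw [← hform]
      simp only [mul_assoc, S'.τ_sq, mul_one]
      rw [← mul_assoc, S'.τ_sq, one_mul]
    rw [h]
    simp only [mul_assoc]
    rw [← mul_assoc S'.τ S'.τ v, S'.τ_sq, one_mul, inv_mul_cancel, mul_one]
  have hz : S'.τ • S'.P 0 1 = S'.P A B := by
    have h3 := congrArg (· • S'.inf) hform
    simp only [hv, S'.U_inv, mul_smul, S'.τ_inf, S'.U_inf] at h3
    exact h3
  have h0' : S'.τ • S'.zero = S'.inf := by rw [← S'.τ_inf, τ_τ]
  have hw : S'.τ • S'.P A (B + S'.φ A * A) = S'.P A (B + S'.φ A * A) := by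
    have h3 := congrArg (· • S'.zero) hform
    have hvinv : v⁻¹ = S'.U A (B + S'.φ A * A) := by rw [hv, S'.U_inv]
    simp only [hvinv, mul_smul, h0', S'.U_inf, S'.τ_inf] at h3
    have h4 := congrArg (S'.U A (B + S'.φ A * A) • ·) h3
    rw [← hvinv, inv_smul_smul, hvinv] at h4
    exact h4.symm
  have hA1 : A = 1 := by
    obtain ⟨u, hu⟩ : ∃ u : Fˣ, (u : F) = A := ⟨Units.mk0 A hA0, rfl⟩
    have h1 : S'.τ • S'.P A (B + 1) = S'.U 0 1 • S'.τ • S'.P 0 (A * S'.φ A) := by
      have e1 : S'.P A (B + 1) = v • S'.P 0 1 := by rw [hv, S'.U_P, mul_zero]; simp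
      have e2 : v • S'.P A B = S'.P 0 (A * S'.φ A) := by
        rw [hv, S'.U_P, CharTwo.add_self_eq_zero]
        congr 1
        linear_combination B * h2
      have e3 := congrArg (· • (S'.τ • S'.P 0 1)) hτvτ
      simp only [mul_smul, τ_τ] at e3
      rw [e1, e3, hz, e2]
    have h3 : S'.τ • S'.P 0 (A * S'.φ A) =
        S'.P (((u⁻¹ : Fˣ) : F) * A) (((u⁻¹ : Fˣ) : F) * S'.φ ((u⁻¹ : Fˣ) : F) * B) := by
      have := S'.τ_scale hz u
      simpa [hu] using this
    have h4 := S'.τ_scale hw u⁻¹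
    rw [inv_inv] at h4
    rw [h3, S'.U_P] at h1
    have h5 : S'.P A (B + 1) = S'.P ((u : F) * A) ((u : F) * S'.φ u * (B + S'.φ A * A)) := by
      rw [← h4, ← τ_τ S' (S'.P A (B + 1)), h1]
      congr 2
      · rw [zero_add]
      · simp only [map_zero, zero_mul, Units.val_inv_eq_inv_val, hu, map_inv₀]
        have : S'.φ A ≠ 0 := (map_ne_zero S'.φ).2 hA0
        field_simp
        ring
    have := (eq_P h5).1
    rw [hu] at this
    field_simp at this
    exact this.symm
  refine ⟨S', B, ?_⟩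
  rw [IsNorm, hform, hv, S'.U_inv, hA1, map_one, one_mul]

/-- The same group with the inverse twist. -/
theorem exists_swap {b : F} (hN : S.IsNorm b) (hb : b = 1) :
    ∃ S' : Setup G Ω F, S'.φ = S.φ.symm ∧ S'.IsNorm 0 := by
  have h2 : (2 : F) = 0 := CharTwo.two_eq_zero
  refine ⟨{ S with
    φ := S.φ.symm
    U := fun a y => S.U a (S.φ y + a * S.φ a)
    U_mul := fun a y c d => ?_
    H_U := fun k a y => ?_
    U_inf := fun a y => S.U_inf _ _
    ne_inf := fun a y => S.ne_inf _ _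
    inj := fun a y c d h => ?_
    surj := fun x hx => ?_
    stab := fun g hg => ?_
    minj := fun x y h => ?_ }, rfl, ?_⟩
  · rw [S.U_mul]
    congr 1
    simp only [map_add, map_mul, S.φ.apply_symm_apply]
    linear_combination (-(a * S.φ c)) * h2
  · rw [S.H_U]
    congr 2
    simp only [map_mul, S.φ.apply_symm_apply]
    ring
  · obtain ⟨e1, e2⟩ := S.inj _ _ _ _ h
    subst e1
    exact ⟨rfl, S.φ.injective (add_right_cancel e2)⟩
  · obtain ⟨a, y, h⟩ := S.surj x hx
    exact ⟨a, S.φ.symm (y + a * S.φ a), by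
      simp only [S.φ.apply_symm_apply, add_assoc, CharTwo.add_self_eq_zero, add_zero]; exact h⟩
  · obtain ⟨a, y, k, h⟩ := S.stab g hg
    exact ⟨a, S.φ.symm (y + a * S.φ a), k, by
      simp only [S.φ.apply_symm_apply, add_assoc, CharTwo.add_self_eq_zero, add_zero]; exact h⟩
  · refine S.minj x y ?_
    have := congrArg S.φ h
    simp only [map_mul, S.φ.apply_symm_apply] at this
    rw [mul_comm, this, mul_comm]
  · subst hb
    simp only [IsNorm] at hN ⊢
    simp only [map_zero, zero_mul, map_one, one_mul, add_zero, zero_add]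
    exact hN

end CfsgLib.SuzukiIdent.Setup
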