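import Cfsg.Agent.Lib.SuzukiIdent.Algebra
import Mathlib.GroupTheory.GroupAction.Defs

/-!
A group with coordinates of Suzuki type on a set: the inversion is determined by the twist and one parameter,
and these two satisfy the field identity.
-/

set_option autoImplicit false

namespace CfsgLib.SuzukiIdent

/-- A group acting on `{inf} ∪ F × F` with the point stabiliser of Suzuki type and an involution `τ`
exchanging two points and inverting the torus. -/
structure Setup (G Ω F : Type*) [Group G] [MulAction G Ω] [Field F] where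
  φ : F ≃+* F
  U : F → F → G
  H : Fˣ →* G
  τ : G
  inf : Ω
  zero : Ω
  U_mul : ∀ a b c d, U a b * U c d = U (a + c) (b + d + φ a * c)
  H_U : ∀ (k : Fˣ) a b, H k * U a b = U (k * a) (k * φ k * b) * H k
  τ_sq : τ * τ = 1
  τ_H : ∀ k, τ * H k = H k⁻¹ * τ
  τ_inf : τ • inf = zero
  U_inf : ∀ a b, U a b • inf = inf
  H_inf : ∀ k, H k • inf = inf
  H_zero : ∀ k, H k • zero = zero
  ne_inf : ∀ a b, U a b • zero ≠ inf
  inj : ∀ a b c d, U a b • zero = U c d • zero → a = c ∧ b = d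
  surj : ∀ x, x ≠ inf → ∃ a b, U a b • zero = x
  stab : ∀ g : G, g • inf = inf → ∃ a b k, g = U a b * H k
  faithful : ∀ g : G, (∀ x : Ω, g • x = x) → g = 1
  minj : ∀ x y : Fˣ, (x : F) * φ x = y * φ y → x = y

variable {G Ω F : Type*} [Group G] [MulAction G Ω] [Field F] [CharP F 2]

namespace Setup

variable (S : Setup G Ω F)

/-- The point with given coordinates. -/
def P (a b : F) : Ω := S.U a b • S.zero

theorem U_zero : S.U 0 0 = 1 := by
  have h := S.U_mul 0 0 0 0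
  simp only [map_zero, zero_mul, add_zero] at h
  exact mul_eq_left.1 h

theorem P_zero : S.P 0 0 = S.zero := by rw [P, U_zero, one_smul]

theorem U_P (a b c d : F) : S.U a b • S.P c d = S.P (a + c) (b + d + S.φ a * c) := by
  rw [P, P, ← mul_smul, S.U_mul]

theorem H_P (k : Fˣ) (a b : F) : S.H k • S.P a b = S.P (k * a) (k * S.φ k * b) := by
  rw [P, P, ← mul_smul, S.H_U, mul_smul, S.H_zero]

theorem H_U' (k : Fˣ) (a b : F) : S.H k * S.U a b * S.H k⁻¹ = S.U (k * a) (k * S.φ k * b) := by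
  rw [S.H_U, mul_assoc, ← map_mul, mul_inv_cancel, map_one, mul_one]

theorem τ_τ (x : Ω) : S.τ • S.τ • x = x := by rw [← mul_smul, S.τ_sq, one_smul]

theorem τ_H_smul (k : Fˣ) (x : Ω) : S.τ • S.H k • x = S.H k⁻¹ • S.τ • x := by
  rw [← mul_smul, ← mul_smul, S.τ_H]

theorem τ_scale {a b c d : F} (h : S.τ • S.P a b = S.P c d) (k : Fˣ) :
    S.τ • S.P (k * a) (k * S.φ k * b) = S.P ((k⁻¹ : Fˣ) * c) ((k⁻¹ : Fˣ) * S.φ (k⁻¹ : Fˣ) * d) := by
  rw [← H_P, τ_H_smul, h, H_P]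

theorem exists_root [Finite F] {x : F} (hx : x ≠ 0) : ∃ k : Fˣ, (k : F) * S.φ k = x := by
  let g : Fˣ → Fˣ := fun k => k * Units.map S.φ.toMonoidHom k
  have hg : Function.Injective g := fun a b e => S.minj a b (congrArg Units.val e)
  obtain ⟨k, hk⟩ := Finite.injective_iff_surjective.1 hg (Units.mk0 x hx)
  exact ⟨k, congrArg Units.val hk⟩

/-- The linear map attached to the parameter. -/
def L (b x : F) : F := b * x + (1 + b) * S.φ x

theorem L_add (b x y : F) : S.L b (x + y) = S.L b x + S.L b y := by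
  simp only [L, map_add]; ring

theorem L_zero (b : F) : S.L b 0 = 0 := by simp [L]

theorem L_one (b : F) : S.L b 1 = 1 := by
  simp only [L, map_one, mul_one]
  linear_combination b * (CharTwo.two_eq_zero : (2 : F) = 0)

/-- The normal form: conjugating the central involution `U 0 1` by `τ`. -/
def IsNorm (b : F) : Prop := S.τ * S.U 0 1 * S.τ = S.U 1 b * S.τ * S.U 1 (b + 1)

variable {S} {b : F} (hN : S.IsNorm b)
include hN

theorem v_mul_w : S.U 1 b * S.U 1 (b + 1) = 1 := by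
  rw [S.U_mul, map_one, one_mul, ← S.U_zero]
  congr 1
  · exact CharTwo.add_self_eq_zero 1
  · linear_combination (b + 1) * (CharTwo.two_eq_zero : (2 : F) = 0)

theorem w_mul_v : S.U 1 (b + 1) * S.U 1 b = 1 := mul_eq_one_comm.1 (v_mul_w hN)

theorem τ_v_τ : S.τ * S.U 1 b * S.τ = S.U 0 1 * S.τ * S.U 1 b := by
  have h : S.U 0 1 = S.τ * (S.U 1 b * S.τ * S.U 1 (b + 1)) * S.τ := by
    rw [← show S.τ * S.U 0 1 * S.τ = _ from hN]
    simp only [mul_assoc, S.τ_sq, mul_one]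
    rw [← mul_assoc, S.τ_sq, one_mul]
  rw [h]
  simp only [mul_assoc]
  rw [← mul_assoc S.τ S.τ (S.U 1 b), S.τ_sq, one_mul, w_mul_v hN, mul_one]

theorem τ_z : S.τ • S.P 0 1 = S.P 1 b := by
  have h : (S.τ * S.U 0 1 * S.τ) • S.inf = (S.U 1 b * S.τ * S.U 1 (b + 1)) • S.inf := by rw [hN]
  simpa [mul_smul, S.τ_inf, S.U_inf, P] using h

theorem τ_v : S.τ • S.P 1 b = S.P 0 1 := by rw [← τ_z hN, τ_τ]

theorem τ_w : S.τ • S.P 1 (b + 1) = S.P 1 (b + 1) := by
  have h0 : S.τ • S.zero = S.inf := by rw [← S.τ_inf, τ_τ]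
  have h : (S.τ * S.U 0 1 * S.τ) • S.zero = (S.U 1 b * S.τ * S.U 1 (b + 1)) • S.zero := by rw [hN]
  simp only [mul_smul, h0, S.U_inf, S.τ_inf] at h
  have h2 := congrArg (S.U 1 (b + 1) • ·) h
  simp only [← mul_smul (S.U 1 (b + 1)) (S.U 1 b), w_mul_v hN, one_smul] at h2
  exact h2.symm

theorem τ_E (x : Ω) : S.τ • S.U 1 b • S.τ • x = S.U 0 1 • S.τ • S.U 1 b • x := by
  rw [← mul_smul, ← mul_smul, ← mul_smul, ← mul_smul, τ_v_τ hN]

theorem τ_center (k : Fˣ) :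
    S.τ • S.P 0 (k * S.φ k) = S.P ((k⁻¹ : Fˣ) : F) ((k⁻¹ : Fˣ) * S.φ (k⁻¹ : Fˣ) * b) := by
  have := S.τ_scale (τ_z hN) k
  simpa using this

theorem τ_R (k k₃ : Fˣ) (h : 1 + (k : F) * S.φ k = k₃ * S.φ k₃) :
    S.τ • S.U 1 (b + 1) • S.H k⁻¹ • S.P 1 b = S.U 1 (b + 1) • S.H k₃⁻¹ • S.P 1 b := by
  have h1 : S.U 0 ((k₃ : F) * S.φ k₃) = S.U 0 1 * (S.H k * S.U 0 1 * S.H k⁻¹) := by
    rw [S.H_U', S.U_mul, ← h]
    simp
  have hconj : S.τ * (S.H k * S.U 0 1 * S.H k⁻¹) * S.τ =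
      S.H k⁻¹ * (S.U 1 b * S.τ * S.U 1 (b + 1)) * S.H k := by
    rw [← show S.τ * S.U 0 1 * S.τ = _ from hN]
    have e1 : S.τ * S.H k = S.H k⁻¹ * S.τ := S.τ_H k
    have e2 : S.H k⁻¹ * S.τ = S.τ * S.H k := (S.τ_H k).symm
    calc S.τ * (S.H k * S.U 0 1 * S.H k⁻¹) * S.τ
        = (S.τ * S.H k) * S.U 0 1 * (S.H k⁻¹ * S.τ) := by simp only [mul_assoc]
      _ = (S.H k⁻¹ * S.τ) * S.U 0 1 * (S.τ * S.H k) := by rw [e1, e2]
      _ = _ := by simp only [mul_assoc]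
  have h2 : S.τ * S.U 0 ((k₃ : F) * S.φ k₃) * S.τ =
      S.U 1 b * S.τ * S.U 1 (b + 1) * (S.H k⁻¹ * (S.U 1 b * S.τ * S.U 1 (b + 1)) * S.H k) := by
    rw [← hconj, ← show S.τ * S.U 0 1 * S.τ = _ from hN, h1]
    simp only [mul_assoc]
    rw [← mul_assoc S.τ S.τ, S.τ_sq, one_mul]
  have h3 := congrArg (· • S.inf) h2
  simp only [mul_smul, S.τ_inf, S.U_inf, S.H_inf] at h3
  change S.τ • S.P 0 _ = S.U 1 b • S.τ • S.U 1 (b + 1) • S.H k⁻¹ • S.P 1 b at h3
  rw [τ_center hN] at h3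
  have h4 := congrArg (S.U 1 (b + 1) • ·) h3
  simp only [← mul_smul (S.U 1 (b + 1)) (S.U 1 b), w_mul_v hN, one_smul] at h4
  rw [← h4, S.H_P, mul_one]

/-- The image of a general point. -/
theorem τ_gen {a Q : F} (ha : a ≠ 0) (ha1 : a ≠ 1) (hQ : Q * S.φ Q = 1 + a + S.φ a) :
    Q ≠ 0 ∧ 1 + a + Q ≠ 0 ∧
      S.τ • S.P 1 (b + S.L b a) = S.P ((1 + a + Q) / (a * Q))
        ((b + S.L b (Q / (1 + a + Q))) * ((1 + a + Q) / (a * Q) * S.φ ((1 + a + Q) / (a * Q)))) := by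
  have h2 : (2 : F) = 0 := CharTwo.two_eq_zero
  have ha1' : 1 + a ≠ 0 := fun e => ha1 (CharTwo.add_eq_zero.1 e).symm
  have hφa : S.φ a ≠ 0 := (map_ne_zero S.φ).2 ha
  have hφa1 : S.φ (1 + a) ≠ 0 := (map_ne_zero S.φ).2 ha1'
  let k : Fˣ := Units.mk0 (a / (1 + a)) (div_ne_zero ha ha1')
  have hk1 : k ≠ 1 := fun e => by
    have := congrArg Units.val e
    simp only [k, Units.val_mk0, Units.val_one, div_eq_one_iff_eq ha1'] at this
    exact one_ne_zero (by linear_combination -this : (1 : F) = 0)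
  have hm : 1 + (k : F) * S.φ k = (1 + a + S.φ a) / ((1 + a) * S.φ (1 + a)) := by
    simp only [k, Units.val_mk0, map_div₀]
    field_simp
    simp only [map_add, map_one]
    linear_combination (a * S.φ a) * h2
  have hQ0 : Q ≠ 0 := by
    rintro rfl
    rw [zero_mul] at hQ
    rw [← hQ, zero_div] at hm
    exact hk1 (S.minj k 1 (by
      simpa using (CharTwo.add_eq_zero.1 hm).symm))
  have hden : 1 + a + Q ≠ 0 := fun e => by
    have e' : Q = 1 + a := (CharTwo.add_eq_zero.1 e).symm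
    rw [e'] at hQ
    have : a * S.φ a = 0 := by simp only [map_add, map_one] at hQ; linear_combination hQ
    rcases mul_eq_zero.1 this with h | h
    · exact ha h
    · exact hφa h
  refine ⟨hQ0, hden, ?_⟩
  let k₃ : Fˣ := Units.mk0 (Q / (1 + a)) (div_ne_zero hQ0 ha1')
  have h3 : 1 + (k : F) * S.φ k = k₃ * S.φ k₃ := by
    rw [hm]
    simp only [k₃, Units.val_mk0, map_div₀]
    rw [← hQ, div_mul_div_comm]
  have hR := τ_R hN k k₃ h3
  simp only [S.H_P, S.U_P, mul_one, map_one, one_mul, k, k₃, Units.val_inv_eq_inv_val,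
    Units.val_mk0] at hR
  have hsc := S.τ_scale hR (Units.mk0 a ha)
  simp only [Units.val_mk0, Units.val_inv_eq_inv_val] at hsc
  have hφQ : S.φ Q ≠ 0 := (map_ne_zero S.φ).2 hQ0
  have hφden : 1 + S.φ a + S.φ Q ≠ 0 := by
    have := (map_ne_zero S.φ).2 hden
    simpa using this
  have e1 : (1 : F) = a * (1 + (a / (1 + a))⁻¹) := by
    field_simp
    linear_combination -(a * h2)
  have e2 : b + S.L b a = a * S.φ a * (b + 1 + (a / (1 + a))⁻¹ * S.φ (a / (1 + a))⁻¹ * b +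
      (a / (1 + a))⁻¹) := by
    simp only [L, map_add, map_one, map_inv₀, map_div₀] at hφa1 ⊢
    field_simp
    linear_combination -((b + 1) * a * S.φ a * h2)
  have e3 : (1 + a + Q) / (a * Q) = a⁻¹ * (1 + (Q / (1 + a))⁻¹) := by
    field_simp
    ring
  have e4 : (b + S.L b (Q / (1 + a + Q))) * ((1 + a + Q) / (a * Q) * S.φ ((1 + a + Q) / (a * Q))) =
      a⁻¹ * S.φ a⁻¹ * (b + 1 + (Q / (1 + a))⁻¹ * S.φ (Q / (1 + a))⁻¹ * b + (Q / (1 + a))⁻¹) := by
    simp only [L, map_add, map_one, map_inv₀, map_div₀, map_mul] at hφa1 ⊢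
    field_simp
    linear_combination (b * ((1 + a) * S.φ Q + Q * (1 + S.φ a) + Q * S.φ Q)) * h2
  have e12 : S.P 1 (b + S.L b a) = S.P (a * (1 + (a / (1 + a))⁻¹))
      (a * S.φ a * (b + 1 + (a / (1 + a))⁻¹ * S.φ (a / (1 + a))⁻¹ * b + (a / (1 + a))⁻¹)) := by
    rw [← e1, ← e2]
  rw [e4, e3, e12]
  exact hsc

end Setup

end CfsgLib.SuzukiIdent
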